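import Cfsg.Agent.Lib.MonsterType.Frame
import Cfsg.Agent.Lib.LargeExtra.SubExtra

/-!
# An involution of `Q` outside the conjugates of `z`: the vectors orthogonal to a short one
-/

set_option autoImplicit false

open scoped Pointwise commutatorElement

namespace CfsgLib.MonsterType

open Cfsg CfsgLib.Golay CfsgLib.Leech CfsgLib.LargeExtra

theorem sqNorm_leechU : sqNorm (Spor.leechU : GolayPt → ℤ) = 32 := by
  show sqNorm Spor.vecU = 32
  decide +kernel

/-- A 2-group with small centre containing all squares and commutators is extraspecial. -/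
theorem isExtraspecial_of_center {P : Type*} [Group P] [Finite P] (hp : IsPGroup 2 P) (z : P)
    (hz1 : z ≠ 1) (hcen : ∀ x : P, x ∈ Subgroup.center P ↔ x = 1 ∨ x = z)
    (hcomm : ∀ x y : P, x * y * x⁻¹ * y⁻¹ = 1 ∨ x * y * x⁻¹ * y⁻¹ = z)
    (hsq : ∀ x : P, x * x = 1 ∨ x * x = z) (hna : ∃ x y : P, x * y ≠ y * x) :
    IsExtraspecial 2 P := by
  have : Fact (Nat.Prime 2) := ⟨Nat.prime_two⟩
  have hmem : ∀ x y : P, ⁅x, y⁆ ∈ Subgroup.center P := fun x y => by
    rw [hcen, commutatorElement_def]; exact hcomm x y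
  have hle' : _root_.commutator P ≤ Subgroup.center P := by
    rw [commutator_def, Subgroup.commutator_le]
    exact fun x _ y _ => hmem x y
  have hle : Subgroup.center P ≤ _root_.commutator P := by
    intro c hc
    rcases (hcen c).1 hc with rfl | rfl
    · exact one_mem _
    · obtain ⟨x, y, hxy⟩ := hna
      have h : ⁅x, y⁆ = c := by
        rw [commutatorElement_def]
        exact (hcomm x y).resolve_left fun h => hxy (by
          rwa [mul_inv_eq_one, mul_inv_eq_iff_eq_mul] at h)
      rw [← h]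
      exact Subgroup.commutator_mem_commutator (Subgroup.mem_top _) (Subgroup.mem_top _)
  refine ⟨⟨hp, le_antisymm ?_ (hle.trans (CfsgLib.PGroup.commutator_le_frattini hp)),
    le_antisymm hle' hle⟩, ?_⟩
  · refine CfsgLib.Transfer.frattini_le_of_commutator_pow (p := 2) (Subgroup.center P) hmem fun u => ?_
    rw [hcen, pow_two]
    exact hsq u
  · rw [Nat.card_eq_two_iff]
    refine ⟨⟨1, one_mem _⟩, ⟨z, (hcen z).2 (Or.inr rfl)⟩, fun h => hz1 (congrArg Subtype.val h).symm, ?_⟩
    rw [Set.eq_univ_iff_forall]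
    rintro ⟨x, hx⟩
    rcases (hcen x).1 hx with rfl | rfl <;> simp

theorem mem_closure_pair_cases {H : Type*} [Group H] {a b : H} (ha : a * a = 1) (hb : b * b = 1)
    (hab : a * b = b * a) {x : H} (hx : x ∈ Subgroup.closure ({a, b} : Set H)) :
    x = 1 ∨ x = a ∨ x = b ∨ x = a * b := by
  have ha' : a⁻¹ = a := inv_eq_of_mul_eq_one_left ha
  have hb' : b⁻¹ = b := inv_eq_of_mul_eq_one_left hb
  have c1 : ∀ w, a * (a * w) = w := fun w => by rw [← mul_assoc, ha, one_mul]
  have c2 : ∀ w, b * (b * w) = w := fun w => by rw [← mul_assoc, hb, one_mul]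
  have c3 : ∀ w, b * (a * w) = a * (b * w) := fun w => by rw [← mul_assoc, ← hab, mul_assoc]
  induction hx using Subgroup.closure_induction with
  | mem x hx => rcases hx with rfl | rfl <;> simp
  | one => exact Or.inl rfl
  | mul x y _ _ hx hy =>
    rcases hx with rfl | rfl | rfl | rfl <;> rcases hy with rfl | rfl | rfl | rfl <;>
      simp [mul_assoc, ha, hb, c1, c2, c3, hab.symm]
  | inv x _ hx =>
    rcases hx with rfl | rfl | rfl | rfl <;> simp [ha', hb', hab.symm]

variable {G : Type*} [Group G] {z : G} {Q : Subgroup (Subgroup.centralizer ({z} : Set G))} [Q.Normal]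
  {e : (Subgroup.centralizer ({z} : Set G)) ⧸ Q ≃* Spor.Co1}
  {ψ : leechLattice → Q ⧸ Subgroup.center Q}

/-- The identification can be moved to send the fixed short vector to a given lift of a short vector. -/
theorem exists_iso_at (hψ : IsLeechModTwoIso Q e ψ) {v : leechLattice}
    (hv : sqNorm (v : GolayPt → ℤ) = 32) {x : Q} (hx : ψ v = QuotientGroup.mk x) :
    ∃ (e' : (Subgroup.centralizer ({z} : Set G)) ⧸ Q ≃* Spor.Co1) (ψ' : leechLattice → Q ⧸ Subgroup.center Q),
      IsLeechModTwoIso Q e' ψ' ∧ ψ' Spor.leechU = QuotientGroup.mk x := by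
  obtain ⟨a, ha⟩ := exists_smul_eq32 sqNorm_leechU hv
  refine ⟨e.trans (MulAut.conj (QuotientGroup.mk a : Spor.Co1)⁻¹), fun w => ψ (a • w),
    ⟨fun v w => ?_, fun q => ?_, fun v => ?_, fun h g hg v q hq => ?_⟩, by dsimp only; rw [ha]; exact hx⟩
  · dsimp only; rw [smul_add']; exact hψ.1 _ _
  · obtain ⟨w, hw⟩ := hψ.2.1 q
    exact ⟨a⁻¹ • w, by dsimp only; rw [smul_inv_smul]; exact hw⟩
  · dsimp only; rw [hψ.2.2.1]
    constructor
    · rintro ⟨w, hw⟩
      refine ⟨a⁻¹ • w, ?_⟩
      rw [← smul_add', ← hw, inv_smul_smul]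
    · rintro ⟨w, rfl⟩
      exact ⟨a • w, smul_add' a w w⟩
  · have hg' : (QuotientGroup.mk (a * g * a⁻¹) : Spor.Co1) = e (QuotientGroup.mk h) := by
      rw [QuotientGroup.mk_mul, QuotientGroup.mk_mul, QuotientGroup.mk_inv, hg]
      simp [mul_assoc]
    have h1 := hψ.2.2.2 h (a * g * a⁻¹) hg' (a • v) q hq
    rwa [← mul_smul, inv_mul_cancel_right, mul_smul] at h1

variable [Finite G] (hS : IsExtraspecialCentralizerSetting z Q 12) (hψ : IsLeechModTwoIso Q e ψ)
  {tQ : Q} (htU : ψ Spor.leechU = QuotientGroup.mk tQ)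

include hS hψ htU

theorem tQ_sq : tQ * tQ = 1 :=
  (sq_eq_one_iff hψ hS htU).2 (by rw [sqNorm_leechU])

theorem tQ_notMem_center : tQ ∉ Subgroup.center Q := fun h => by
  have := (mem_center_iff_norm hψ (by rw [sqNorm_leechU]; norm_num) htU).1 h
  rw [sqNorm_leechU] at this
  omega

/-- Commuting with the involution is orthogonality modulo two. -/
theorem commute_iff_dot {w : leechLattice} {x : Q} (hx : ψ w = QuotientGroup.mk x) :
    x * tQ = tQ * x ↔ (16 : ℤ) ∣ dotInt (w : GolayPt → ℤ) Spor.vecU := by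
  have hxt : ψ (w + Spor.leechU) = QuotientGroup.mk (x * tQ) := by
    rw [psi_add hψ, hx, htU]; rfl
  have h1 := sq_eq_one_iff hψ hS hx
  have h2 := sq_eq_one_iff hψ hS hxt
  have ht := tQ_sq hS hψ htU
  have hn : sqNorm ((w + Spor.leechU : leechLattice) : GolayPt → ℤ) =
      sqNorm (w : GolayPt → ℤ) + 2 * dotInt (w : GolayPt → ℤ) Spor.vecU + 32 := by
    rw [AddSubgroup.coe_add, sqNorm_add, sqNorm_leechU]; rfl
  rw [hn] at h2
  have h8 := eight_dvd_dotInt w.2 Spor.leechU.2
  have h16 := sqNorm_dvd_sixteen w.2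
  have hu : (Spor.leechU : GolayPt → ℤ) = Spor.vecU := rfl
  rw [hu] at h8
  have hcase := comm_mem_center (extraspecial hS) tQ x
  constructor
  · intro hc
    have e1 : x * tQ * (x * tQ) = x * x := by
      calc x * tQ * (x * tQ) = x * (tQ * x) * tQ := by group
        _ = x * (x * tQ) * tQ := by rw [hc]
        _ = x * x * (tQ * tQ) := by group
        _ = x * x := by rw [ht, mul_one]
    rw [e1] at h2
    by_cases hxx : x * x = 1
    · have := h1.1 hxx; have := h2.1 hxx; omega
    · have := mt h1.2 hxx; have := mt h2.2 hxx; omega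
  · intro hd
    obtain ⟨c, hc1, hc2', hall⟩ := exists_centre_gen (extraspecial hS)
    rcases hall _ hcase with hc | hc
    · rw [mul_inv_eq_one, mul_inv_eq_iff_eq_mul] at hc
      exact hc.symm
    · have hti : tQ⁻¹ = tQ := inv_eq_of_mul_eq_one_left ht
      have hcne : c ≠ 1 := fun h => by
        rw [h, orderOf_one] at hc2'
        omega
      have e1 : x * tQ * (x * tQ) = (x * x) * c := by
        calc x * tQ * (x * tQ) = x * (tQ * x * tQ⁻¹ * x⁻¹) * x := by rw [hti]; group
          _ = x * c * x := by rw [hc]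
          _ = x * (c * x) := mul_assoc _ _ _
          _ = x * (x * c) := by rw [Subgroup.mem_center_iff.1 hc1 x]
          _ = x * x * c := (mul_assoc _ _ _).symm
      rw [e1] at h2
      rcases hall _ (sq_mem_center (extraspecial hS) x) with hxx | hxx
      · rw [hxx, one_mul] at h2
        have := h1.1 hxx
        have hd2 := mt h2.2 hcne
        omega
      · have hcc : c * c = 1 := center_sq hS hc1
        rw [hxx, hcc] at h2
        have := mt h1.2 (by rw [hxx]; exact hcne)
        have := h2.1 rfl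
        omega

/-- The double perpendicular of the involution. -/
theorem mk_cases_of_commute_perp {x : Q} (hx : ∀ y : Q, y * tQ = tQ * y → y * x = x * y) :
    (QuotientGroup.mk x : Q ⧸ Subgroup.center Q) = 1 ∨
      (QuotientGroup.mk x : Q ⧸ Subgroup.center Q) = QuotientGroup.mk tQ := by
  have hE := extraspecial hS
  set M := Subgroup.center Q ⊔ Subgroup.zpowers tQ with hM
  have hMcen : Subgroup.centralizer (M : Set Q) = Subgroup.centralizer ({tQ} : Set Q) := by
    refine le_antisymm (Subgroup.centralizer_le ?_) ?_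
    · rw [Set.singleton_subset_iff]; exact Subgroup.mem_sup_right (Subgroup.mem_zpowers _)
    · rw [Subgroup.le_centralizer_iff]
      refine sup_le (Subgroup.center_le_centralizer _) ?_
      rw [Subgroup.zpowers_le, Subgroup.mem_centralizer_iff]
      exact fun y hy => Subgroup.mem_centralizer_singleton_iff.1 hy
  have h1 := centralizer_centralizer hE M le_sup_left
  have hxM : x ∈ M := by
    rw [← h1, Subgroup.mem_centralizer_iff]
    intro y hy
    rw [hMcen] at hy
    exact hx y (Subgroup.mem_centralizer_singleton_iff.1 hy)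
  have h2 : (QuotientGroup.mk x : Q ⧸ Subgroup.center Q) ∈
      Subgroup.zpowers (QuotientGroup.mk tQ : Q ⧸ Subgroup.center Q) := by
    have h := Subgroup.mem_map_of_mem (QuotientGroup.mk' (Subgroup.center Q)) hxM
    rw [hM, Subgroup.map_sup, QuotientGroup.map_mk'_self, bot_sup_eq, MonoidHom.map_zpowers] at h
    exact h
  obtain ⟨k, hk⟩ := Subgroup.mem_zpowers_iff.1 h2
  have ht2 : (QuotientGroup.mk tQ : Q ⧸ Subgroup.center Q) ^ (2 : ℤ) = 1 := by
    rw [zpow_two, ← QuotientGroup.mk_mul, tQ_sq hS hψ htU]; rfl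
  rcases Int.even_or_odd k with ⟨j, hj⟩ | ⟨j, hj⟩
  · left; rw [← hk, hj, ← two_mul, zpow_mul, ht2, one_zpow]
  · right; rw [← hk, hj, zpow_add, zpow_mul, ht2, one_zpow, one_mul, zpow_one]

/-- The centraliser of the involution in `Q` has index two. -/
theorem card_perp : Nat.card (Subgroup.centralizer ({tQ} : Set Q)) = 2 ^ 24 := by
  have hE := extraspecial hS
  have h := card_le_two_mul_centralizer hE tQ ⊤
  rw [top_inf_eq, Subgroup.card_top, card_Q hS] at h
  have hne : Subgroup.centralizer ({tQ} : Set Q) ≠ ⊤ := fun h' => by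
    refine tQ_notMem_center hS hψ htU (Subgroup.mem_center_iff.2 fun g => ?_)
    exact Subgroup.mem_centralizer_singleton_iff.1 (h' ▸ Subgroup.mem_top g)
  have hd := Subgroup.card_subgroup_dvd_card (Subgroup.centralizer ({tQ} : Set Q))
  rw [card_Q hS] at hd
  obtain ⟨k, hk, hk'⟩ := (Nat.dvd_prime_pow Nat.prime_two).1 hd
  rw [hk'] at h
  have hlt : k ≠ 25 := fun hk25 => hne (Subgroup.eq_top_of_card_eq _ (by rw [hk', hk25, card_Q hS]))
  have h24 : 24 ≤ k := by
    by_contra hlt'
    have : 2 ^ k ≤ 2 ^ 23 := Nat.pow_le_pow_right (by norm_num) (by omega)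
    omega
  rw [hk', show k = 24 by omega]

omit htU in
/-- Some conjugate of `z` shares an involution of the other class with `Q`. -/
theorem exists_shared_involution : ∃ (a x : Q) (v : leechLattice),
    sqNorm (v : GolayPt → ℤ) = 32 ∧ ψ v = QuotientGroup.mk a ∧
    IsConj z ((x : Subgroup.centralizer ({z} : Set G)) : G) ∧
    ((x : Subgroup.centralizer ({z} : Set G)) : G) ≠ z ∧
    ((a : Subgroup.centralizer ({z} : Set G)) : G) ∈
      coreC ((x : Subgroup.centralizer ({z} : Set G)) : G) := by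
  obtain ⟨x, hx⟩ := QuotientGroup.mk_surjective (ψ baseVec)
  have hb : sqNorm (baseVec : GolayPt → ℤ) = 64 := by
    rw [baseVec, coe_axisVec, sqNorm_single]; norm_num
  obtain ⟨hs, hs1⟩ := (conj_iff_type64 hS hψ x).2 ⟨baseVec, hb, hx.symm⟩
  set s : G := ((x : Subgroup.centralizer ({z} : Set G)) : G) with hsdef
  have hcode : CodeSet (toSet 7221256) :=
    mem_supports.2 ⟨_, mem_golayList_of_inCode (by decide +kernel), rfl⟩
  have hO : CodeSet (toSet 1302533) :=
    mem_supports.2 ⟨_, mem_golayList_of_inCode (by decide +kernel), rfl⟩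
  let u : leechLattice := ⟨_, two_code_mem_leech hO 0 (by simp)⟩
  set ε : Co0 := signAut (toSet 7221256) hcode with hε
  -- the sign change lies in the image of the other core
  have hεmono : ε = monoAut 1 (one_mem _) _ hcode := co_ext fun v => Subtype.ext (funext fun i => by
    rw [hε, coe_signAut_smul, coe_monoAut_smul, signFlip_apply]
    simp [signedPerm, Equiv.Perm.one_symm, Equiv.Perm.one_apply])
  have hmem : proj e ε ∈ eSub Q s := by
    rw [eSub_eq_image hS hψ hx.symm hb hs hs1 (g₀ := 1) (by rw [one_smul, sub_self]; exact zero_mem _)]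
    refine ⟨⟨ε, hεmono ▸ monoAut_mem _ _ _ _⟩, ?_, ?_⟩
    · show permPart _ = 1
      exact Subtype.ext (permOfMono_eq (hσ := one_mem _) (hc := hcode) hεmono)
    · rw [frameMap_apply]; simp
  obtain ⟨r, hr, hre⟩ := hmem
  obtain ⟨y, hy⟩ := QuotientGroup.mk_surjective (ψ u)
  -- the lift commutes with the conjugate
  have hyx : y * x = x * y := by
    have hxy : ψ (u + baseVec) = QuotientGroup.mk (y * x) := by rw [psi_add hψ, ← hx, ← hy]; rfl
    have hfacts : sqNorm (fun p => 2 * indi (toSet 1302533) p + 4 * (0 : ℤ)) = 32 ∧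
        (32 : ℤ) ∣ sqNorm ((fun p => 2 * indi (toSet 1302533) p + 4 * (0 : ℤ)) + Pi.single none 8) := by
      decide +kernel
    have h1 : y * y = 1 := (sq_eq_one_iff hψ hS hy.symm).2 (by
      show (32 : ℤ) ∣ sqNorm (fun p => 2 * indi (toSet 1302533) p + 4 * (0 : ℤ))
      rw [hfacts.1])
    have h2 : x * x = 1 := (sq_eq_one_iff hψ hS hx.symm).2 (by rw [hb]; norm_num)
    have h3 : y * x * (y * x) = 1 := (sq_eq_one_iff hψ hS hxy).2 (by
      rw [AddSubgroup.coe_add]; exact hfacts.2)
    calc y * x = (y * x)⁻¹ := (inv_eq_of_mul_eq_one_left h3).symm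
      _ = x⁻¹ * y⁻¹ := mul_inv_rev _ _
      _ = x * y := by rw [inv_eq_of_mul_eq_one_left h1, inv_eq_of_mul_eq_one_left h2]
  let a : Q := ⟨r * y * r⁻¹, (inferInstance : Q.Normal).conj_mem _ y.2 r⟩ * y⁻¹
  refine ⟨a, x, ε • u - u, ?_, ?_, hs, hs1, ?_⟩
  · rw [AddSubgroup.coe_sub, hε, coe_signAut_smul]
    show sqNorm (signFlip (toSet 7221256) (fun p => 2 * indi (toSet 1302533) p + 4 * (0 : ℤ)) -
      fun p => 2 * indi (toSet 1302533) p + 4 * (0 : ℤ)) = 32
    decide +kernel
  · have h1 := psi_smul hψ (g := ε) hre.symm hy.symm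
    have h2 := psi_add hψ (ε • u - u) u
    rw [sub_add_cancel, h1, ← hy] at h2
    rw [← mul_inv_eq_iff_eq_mul] at h2
    rw [← h2]
    rfl
  · have hy' : ((y : Subgroup.centralizer ({z} : Set G)) : G) ∈ Subgroup.centralizer ({s} : Set G) :=
      Subgroup.mem_centralizer_singleton_iff.2
        (congrArg (fun q : Q => ((q : Subgroup.centralizer ({z} : Set G)) : G)) hyx)
    have e1 : ((a : Subgroup.centralizer ({z} : Set G)) : G) = (r : G) *
        (((y : Subgroup.centralizer ({z} : Set G)) : G) * (r : G)⁻¹ *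
          ((y : Subgroup.centralizer ({z} : Set G)) : G)⁻¹) := by
      simp only [a, Subgroup.coe_mul, InvMemClass.coe_inv]
      group
    rw [e1]
    refine mul_mem hr.1 ?_
    exact (Subgroup.mem_normalizer_iff.1 (centralizer_le_normalizer_coreC s hy') _).1 (inv_mem hr.1)

end CfsgLib.MonsterType
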