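import Cfsg.Agent.Lib.MonsterType.Perp
import Cfsg.Agent.Lib.Local.CharP

/-!
# The centraliser of an involution of the second kind, modulo it
-/

set_option autoImplicit false

open scoped Pointwise

namespace CfsgLib.MonsterType

open Cfsg CfsgLib.Leech CfsgLib.LargeExtra

/-- The stabiliser of the short vector as a subgroup of `Co0`. -/
def stabU : Subgroup Co0 := MulAction.stabilizer Co0 Spor.leechU

/-- The two descriptions of the second Conway group. -/
def stabUEquiv : stabU ≃* Spor.Co2 where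
  toFun g := ⟨(g : Co0), ⟨(g : Co0).2, g.2⟩⟩
  invFun g := ⟨⟨g, g.2.1⟩, g.2.2⟩
  left_inv _ := rfl
  right_inv _ := rfl
  map_mul' _ _ := rfl

theorem coe_stabUEquiv_smul (g : stabU) (x : leechLattice) :
    (stabUEquiv g : Spor.Co2) • x = (g : Co0) • x := rfl

theorem smul_U_ne {g : Co0} (hg : g • Spor.leechU = Spor.leechU) (hc : g ∈ Subgroup.center Co0) : g = 1 := by
  refine (center_co0_cases hc).resolve_right fun h => ?_
  rw [h, negAut_smul] at hg
  have h0 := congrArg (fun w : leechLattice => (w : GolayPt → ℤ) none) hg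
  have : (Spor.leechU : GolayPt → ℤ) none = 4 := by simp [Spor.leechU, Spor.vecU]
  simp only [AddSubgroup.coe_neg, Pi.neg_apply] at h0
  omega

/-- An element of the stabiliser moving each orthogonal vector at most by the fixed one is trivial. -/
theorem eq_one_of_trivial_perp {g : Co0} (hfix : g • Spor.leechU = Spor.leechU)
    (h : ∀ w : leechLattice, dotInt (w : GolayPt → ℤ) Spor.vecU = 0 →
      g • w - w ∈ twoMul leechLattice ∨ g • w - (w + Spor.leechU) ∈ twoMul leechLattice) : g = 1 := by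
  refine eq_one_of_pm_orth sqNorm_leechU hfix fun w hw hd => ?_
  have hd' : dotInt (w : GolayPt → ℤ) Spor.vecU = 0 := by
    rw [dotInt_comm]; exact hd
  have hgn : sqNorm ((g • w : leechLattice) : GolayPt → ℤ) = 32 := by rw [sqNorm_smul_co, hw]
  rcases h w hd' with h1 | h1
  · exact eq_or_neg_of_congr32 h1 hgn hw
  · exfalso
    have hn : sqNorm ((w + Spor.leechU : leechLattice) : GolayPt → ℤ) = 64 := by
      rw [AddSubgroup.coe_add, sqNorm_add, hw, sqNorm_leechU]
      rw [dotInt_comm] at hd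
      rw [hd]; norm_num
    have := sqNorm_eq_of_congr h1 (by omega) (by omega)
    omega

variable {G : Type*} [Group G] [Finite G] {z : G}
  {Q : Subgroup (Subgroup.centralizer ({z} : Set G))} [Q.Normal]
  {e : (Subgroup.centralizer ({z} : Set G)) ⧸ Q ≃* Spor.Co1}
  {ψ : leechLattice → Q ⧸ Subgroup.center Q}

set_option maxHeartbeats 1000000 in
/-- The centraliser modulo the involution is of Baby Monster type. -/
theorem isOfBabyMonsterType_quot (hS : IsExtraspecialCentralizerSetting z Q 12)
    (hψ : IsLeechModTwoIso Q e ψ) {tQ : Q} (htU : ψ Spor.leechU = QuotientGroup.mk tQ) {t : G}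
    (htt : ((tQ : Subgroup.centralizer ({z} : Set G)) : G) = t) (htz : ¬ IsConj z t)
    [hn : ((Subgroup.zpowers t).subgroupOf (Subgroup.centralizer ({t} : Set G))).Normal] :
    IsOfBabyMonsterType (↥(Subgroup.centralizer ({t} : Set G)) ⧸
      (Subgroup.zpowers t).subgroupOf (Subgroup.centralizer ({t} : Set G))) := by
  classical
  -- facts about the involution
  have hzz : z * z = 1 := z_sq hS
  have htt2 : t * t = 1 := by
    rw [← htt]
    exact congrArg (fun q : Q => ((q : Subgroup.centralizer ({z} : Set G)) : G)) (tQ_sq hS hψ htU)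
  have htcQ := tQ_notMem_center hS hψ htU
  have ht1 : t ≠ 1 := fun h => htcQ ((center_cases hS).2 (Or.inl (htt.trans h)))
  have htnz : t ≠ z := fun h => htcQ ((center_cases hS).2 (Or.inr (htt.trans h)))
  have hztc : z * t = t * z := by rw [← htt]; exact (commute_z _).symm
  have htzp : ∀ y ∈ Subgroup.zpowers t, y = 1 ∨ y = t := by
    intro y hy
    obtain ⟨k, rfl⟩ := Subgroup.mem_zpowers_iff.1 hy
    have h2 : t ^ (2 : ℤ) = 1 := by rw [zpow_two, htt2]
    rcases Int.even_or_odd k with ⟨j, hj⟩ | ⟨j, hj⟩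
    · left; rw [hj, ← two_mul, zpow_mul, h2, one_zpow]
    · right; rw [hj, zpow_add, zpow_mul, h2, one_zpow, one_mul, zpow_one]
  -- a conjugate of `t` times `z` is not a conjugate of `z`
  have hzt : ¬ IsConj z (z * t) := by
    intro hc
    obtain ⟨k, hk⟩ : ∃ k : Q, k * tQ * k⁻¹ * tQ⁻¹ ≠ 1 := by
      by_contra! hall
      refine htcQ (Subgroup.mem_center_iff.2 fun k => ?_)
      have h4 := hall k
      rwa [mul_inv_eq_one, mul_inv_eq_iff_eq_mul] at h4
    have h5 := ((center_cases hS).1 (comm_mem_center (extraspecial hS) k tQ)).resolve_left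
      fun h => hk (Subtype.ext (Subtype.ext h))
    simp only [Subgroup.coe_mul, InvMemClass.coe_inv, htt] at h5
    refine htz (hc.trans (isConj_iff.2 ⟨((k : Subgroup.centralizer ({z} : Set G)) : G)⁻¹, ?_⟩))
    rw [show z * t = ((k : Subgroup.centralizer ({z} : Set G)) : G) * t *
        ((k : Subgroup.centralizer ({z} : Set G)) : G)⁻¹ from (mul_inv_eq_iff_eq_mul.1 h5).symm]
    group
  -- the centraliser of the pair
  set T := Subgroup.centralizer ({t} : Set G) with hT
  set CT : Subgroup T := (Subgroup.centralizer ({z} : Set G)).subgroupOf T with hCT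
  have hzT : z ∈ T := Subgroup.mem_centralizer_singleton_iff.2 hztc
  have htT : t ∈ T := Subgroup.mem_centralizer_singleton_iff.2 rfl
  set D := T ⧸ (Subgroup.zpowers t).subgroupOf T with hD
  let π : T →* D := QuotientGroup.mk' _
  set zb : D := π ⟨z, hzT⟩ with hzb
  have hπ1 : ∀ a : T, π a = 1 ↔ (a : G) = 1 ∨ (a : G) = t := by
    intro a
    constructor
    · intro h
      exact htzp _ (Subgroup.mem_subgroupOf.1 ((QuotientGroup.eq_one_iff a).1 h))
    · intro h
      refine (QuotientGroup.eq_one_iff a).2 (Subgroup.mem_subgroupOf.2 ?_)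
      rcases h with h | h <;> rw [h]
      exacts [one_mem _, Subgroup.mem_zpowers t]
  have hzb1 : zb ≠ 1 := fun h => by
    rcases (hπ1 _).1 h with h | h
    · exact z_ne_one hS h
    · exact htnz h.symm
  have hzb2 : orderOf zb = 2 := by
    refine orderOf_eq_prime ?_ hzb1
    rw [hzb, ← map_pow, hπ1]
    left
    rw [sq, Subgroup.coe_mul]
    exact hzz
  have hmemC : ∀ a : CT, π (a : T) ∈ Subgroup.centralizer ({zb} : Set D) := fun a => by
    rw [Subgroup.mem_centralizer_singleton_iff, hzb, ← map_mul, ← map_mul]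
    exact congrArg π (Subtype.ext (Subgroup.mem_centralizer_singleton_iff.1 (Subgroup.mem_subgroupOf.1 a.2)))
  let πc : CT →* Subgroup.centralizer ({zb} : Set D) := (π.comp CT.subtype).codRestrict _ hmemC
  have hπc : Function.Surjective πc := by
    rintro ⟨d, hd⟩
    obtain ⟨a, rfl⟩ := QuotientGroup.mk'_surjective _ d
    rw [Subgroup.mem_centralizer_singleton_iff] at hd
    have h1 : π (a * ⟨z, hzT⟩ * a⁻¹ * (⟨z, hzT⟩ : T)⁻¹) = 1 := by
      rw [map_mul, map_mul, map_mul, map_inv, map_inv]
      show π a * zb * (π a)⁻¹ * zb⁻¹ = 1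
      rw [mul_inv_eq_one, mul_inv_eq_iff_eq_mul]
      exact hd
    have haC : (a : G) ∈ (Subgroup.centralizer ({z} : Set G)) := by
      rw [Subgroup.mem_centralizer_singleton_iff]
      rcases (hπ1 _).1 h1 with h | h <;>
        simp only [Subgroup.coe_mul, InvMemClass.coe_inv] at h
      · rwa [mul_inv_eq_one, mul_inv_eq_iff_eq_mul] at h
      · exfalso
        refine hzt (isConj_iff.2 ⟨(a : G), ?_⟩)
        rw [hztc, ← h]
        group
    exact ⟨⟨a, haC⟩, Subtype.ext rfl⟩
  -- the map to the stabiliser of the short vector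
  let pU : stabU →* (Subgroup.centralizer ({z} : Set G)) ⧸ Q := (proj e).comp stabU.subtype
  have hpU : Function.Injective pU := by
    rw [injective_iff_map_eq_one]
    intro g hg
    exact Subtype.ext (smul_U_ne g.2 (proj_eq_one_iff.1 hg))
  have hUt : ∀ g : Co0, proj e g ∈ xSub Q t ↔ g • Spor.leechU - Spor.leechU ∈ twoMul leechLattice := by
    intro g
    rw [← htt]
    exact proj_mem_xSub_iff hS hψ htU (by rw [sqNorm_leechU]; norm_num) (by rw [sqNorm_leechU]; norm_num)
  have hrangeU : pU.range = xSub Q t := by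
    ext a
    constructor
    · rintro ⟨g, rfl⟩
      refine (hUt _).2 ?_
      show (g : Co0) • Spor.leechU - Spor.leechU ∈ _
      rw [MulAction.mem_stabilizer_iff.1 g.2, sub_self]
      exact zero_mem _
    · intro ha
      obtain ⟨g, rfl⟩ := proj_surjective (e := e) a
      rcases eq_or_neg_of_congr32 ((hUt g).1 ha) (by rw [sqNorm_smul_co, sqNorm_leechU]) sqNorm_leechU
        with h | h
      · exact ⟨⟨g, h⟩, rfl⟩
      · refine ⟨⟨negAut * g, MulAction.mem_stabilizer_iff.2 (by rw [mul_smul, h, negAut_smul, neg_neg])⟩, ?_⟩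
        show proj e (negAut * g) = proj e g
        rw [map_mul, proj_eq_one_iff.2 negAut_mem_center, one_mul]
  let f : CT →* (Subgroup.centralizer ({z} : Set G)) ⧸ Q := (QuotientGroup.mk' Q).comp
    ((T.subtype.comp CT.subtype).codRestrict (Subgroup.centralizer ({z} : Set G)) fun a => a.2)
  have hf : ∀ a, f a ∈ pU.range := fun a => by
    rw [hrangeU]
    exact ⟨⟨((a : T) : G), a.2⟩, Subgroup.mem_subgroupOf.2 ⟨a.2, (a : T).2⟩, rfl⟩
  let σ : CT →* stabU := (MonoidHom.ofInjective hpU).symm.toMonoidHom.comp (f.codRestrict pU.range hf)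
  have hσf : ∀ a, pU (σ a) = f a := fun a =>
    congrArg Subtype.val ((MonoidHom.ofInjective hpU).apply_symm_apply ⟨f a, hf a⟩)
  have hσs : Function.Surjective σ := by
    intro g
    obtain ⟨c, hc, hcg⟩ : pU g ∈ xSub Q t := hrangeU ▸ ⟨g, rfl⟩
    refine ⟨⟨⟨(c : G), (Subgroup.mem_subgroupOf.1 hc).2⟩, c.2⟩, hpU ?_⟩
    rw [hσf]
    exact hcg
  have hσ1 : ∀ a, σ a = 1 ↔ (⟨((a : T) : G), a.2⟩ : (Subgroup.centralizer ({z} : Set G))) ∈ Q := fun a => by
    rw [← hpU.eq_iff, hσf, map_one]
    exact QuotientGroup.eq_one_iff _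
  have htQmem : (⟨t, htt ▸ (tQ : (Subgroup.centralizer ({z} : Set G))).2⟩ : (Subgroup.centralizer ({z} : Set G))) ∈ Q := by
    convert tQ.2 using 1
    exact Subtype.ext htt.symm
  have hker : πc.ker ≤ σ.ker := by
    intro a ha
    rw [MonoidHom.mem_ker] at ha ⊢
    rw [hσ1]
    rcases (hπ1 _).1 (congrArg Subtype.val ha) with h | h
    · convert one_mem Q
      exact Subtype.ext h
    · convert htQmem using 1
      exact Subtype.ext h
  let σb : Subgroup.centralizer ({zb} : Set D) →* stabU := πc.liftOfSurjective hπc ⟨σ, hker⟩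
  have hσb : ∀ a, σb (πc a) = σ a := fun a => MonoidHom.liftOfRightInverse_comp_apply _ _ _ _ a
  have hσbs : Function.Surjective σb := fun g => by
    obtain ⟨a, rfl⟩ := hσs g
    exact ⟨πc a, hσb a⟩
  -- the normal 2-subgroup
  set P : Subgroup Q := Subgroup.centralizer ({tQ} : Set Q) with hP
  have hPT : ∀ x : P, (((x : Q) : (Subgroup.centralizer ({z} : Set G))) : G) ∈ T := fun x => by
    rw [hT, Subgroup.mem_centralizer_singleton_iff, ← htt]
    exact congrArg (fun q : Q => ((q : (Subgroup.centralizer ({z} : Set G))) : G)) (Subgroup.mem_centralizer_singleton_iff.1 x.2)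
  let incl : P →* CT := ((((Subgroup.centralizer ({z} : Set G)).subtype.comp Q.subtype).comp P.subtype).codRestrict T hPT).codRestrict CT
    fun x => Subgroup.mem_subgroupOf.2 ((x : Q) : (Subgroup.centralizer ({z} : Set G))).2
  let η : P →* Subgroup.centralizer ({zb} : Set D) := πc.comp incl
  have hη1 : ∀ x : P, η x = 1 ↔ (x : Q) = 1 ∨ (x : Q) = tQ := fun x => by
    constructor
    · intro h
      rcases (hπ1 _).1 (congrArg Subtype.val h) with h' | h'
      · exact Or.inl (Subtype.ext (Subtype.ext h'))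
      · exact Or.inr (Subtype.ext (Subtype.ext (h'.trans htt.symm)))
    · intro h
      refine Subtype.ext ((hπ1 _).2 ?_)
      rcases h with h | h
      · exact Or.inl (congrArg (fun q : Q => ((q : (Subgroup.centralizer ({z} : Set G))) : G)) h)
      · exact Or.inr ((congrArg (fun q : Q => ((q : (Subgroup.centralizer ({z} : Set G))) : G)) h).trans htt)
  set R := η.range with hR
  have hRker : R = σb.ker := by
    ext d
    obtain ⟨a, rfl⟩ := hπc d
    rw [MonoidHom.mem_ker, hσb, hσ1]
    constructor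
    · rintro ⟨x, hx⟩
      have h1 : σb (η x) = σ (incl x) := hσb _
      rw [hx, hσb] at h1
      rw [← hσ1, h1, hσ1]
      exact (x : Q).2
    · intro ha
      have haT := Subgroup.mem_centralizer_singleton_iff.1 (a : T).2
      refine ⟨⟨⟨⟨((a : T) : G), a.2⟩, ha⟩, Subgroup.mem_centralizer_singleton_iff.2
        (Subtype.ext (Subtype.ext ?_))⟩, rfl⟩
      simp only [Subgroup.coe_mul, htt]
      exact haT
  have hRn : R.Normal := by rw [hRker]; infer_instance
  -- structure of the normal 2-subgroup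
  have hzP : (⟨⟨z, self_mem_centralizer⟩, z_mem hS⟩ : Q) ∈ P :=
    Subgroup.mem_centralizer_singleton_iff.2 (Subgroup.mem_center_iff.1
      ((center_cases hS).2 (Or.inr rfl)) tQ).symm
  set zP : P := ⟨_, hzP⟩ with hzPdef
  have hcenQ : ∀ c : Q, c ∈ Subgroup.center Q → c = 1 ∨ c = (zP : Q) := fun c hc => by
    rcases (center_cases hS).1 hc with h | h
    · exact Or.inl (Subtype.ext (Subtype.ext h))
    · exact Or.inr (Subtype.ext (Subtype.ext h))
  have hzη : η zP ≠ 1 := fun h => by
    rcases (hη1 _).1 h with h | h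
    · exact z_ne_one hS (congrArg (fun q : Q => ((q : (Subgroup.centralizer ({z} : Set G))) : G)) h)
    · exact htnz (htt.symm.trans (congrArg (fun q : Q => ((q : (Subgroup.centralizer ({z} : Set G))) : G)) h.symm))
  have hcenP : ∀ x : P, (∀ y : P, η (x * y * x⁻¹ * y⁻¹) = 1) ↔ η x = 1 ∨ η x = η zP := by
    intro x
    constructor
    · intro h
      have hc : ∀ y : Q, y * tQ = tQ * y → y * (x : Q) = (x : Q) * y := by
        intro y hy
        have hy' := hη1 (x * ⟨y, Subgroup.mem_centralizer_singleton_iff.2 hy⟩ * x⁻¹ *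
          (⟨y, Subgroup.mem_centralizer_singleton_iff.2 hy⟩ : P)⁻¹)
        rcases hy'.1 (h _) with h' | h' <;> simp only [Subgroup.coe_mul, InvMemClass.coe_inv] at h'
        · rw [mul_inv_eq_one, mul_inv_eq_iff_eq_mul] at h'
          exact h'.symm
        · exact absurd (h' ▸ comm_mem_center (extraspecial hS) (x : Q) y) htcQ
      rcases mk_cases_of_commute_perp hS hψ htU hc with h1 | h1
      · rcases hcenQ _ ((QuotientGroup.eq_one_iff _).1 h1) with h2 | h2
        · exact Or.inl ((hη1 x).2 (Or.inl h2))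
        · exact Or.inr (congrArg η (Subtype.ext h2))
      · have hti : tQ⁻¹ = tQ := inv_eq_of_mul_eq_one_left (tQ_sq hS hψ htU)
        have h2 : (tQ * (x : Q)) ∈ Subgroup.center Q := by
          have := QuotientGroup.eq.1 h1.symm
          rwa [hti] at this
        have htP : tQ ∈ P := Subgroup.mem_centralizer_singleton_iff.2 rfl
        have hηt : η ⟨tQ, htP⟩ = 1 := (hη1 _).2 (Or.inr rfl)
        have hx : η x = η (⟨tQ, htP⟩ * x) := by rw [map_mul, hηt, one_mul]
        rcases hcenQ _ h2 with h3 | h3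
        · exact Or.inl (hx.trans ((hη1 _).2 (Or.inl h3)))
        · exact Or.inr (hx.trans (congrArg η (Subtype.ext h3)))
    · rintro (h | h) y
      · rw [map_mul, map_mul, map_mul, map_inv, map_inv, h]; group
      · have e1 : η zP * η y = η y * η zP := by
          rw [← map_mul, ← map_mul]
          exact congrArg η (Subtype.ext (Subgroup.mem_center_iff.1
            ((center_cases hS).2 (Or.inr rfl)) (y : Q)).symm)
        rw [map_mul, map_mul, map_mul, map_inv, map_inv, h, e1]; group
  let zR : R := ⟨η zP, ⟨zP, rfl⟩⟩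
  have hRcen : ∀ r : R, r ∈ Subgroup.center R ↔ r = 1 ∨ r = zR := by
    rintro ⟨_, x, rfl⟩
    rw [Subgroup.mem_center_iff]
    constructor
    · intro h
      rcases (hcenP x).1 (fun y => by
        have h' := congrArg Subtype.val (h ⟨η y, y, rfl⟩)
        simp only [Subgroup.coe_mul] at h'
        rw [map_mul, map_mul, map_mul, map_inv, map_inv, ← h']; group) with h' | h'
      · exact Or.inl (Subtype.ext h')
      · exact Or.inr (Subtype.ext h')
    · intro h
      rintro ⟨_, y, rfl⟩
      refine Subtype.ext ?_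
      have h' := (hcenP x).2 (h.imp (congrArg Subtype.val) (congrArg Subtype.val)) y
      rw [map_mul, map_mul, map_mul, map_inv, map_inv, mul_inv_eq_one, mul_inv_eq_iff_eq_mul] at h'
      exact h'.symm
  have hR2 : IsPGroup 2 R := by
    intro r
    obtain ⟨x, hx⟩ := r.2
    obtain ⟨k, hk⟩ := ((extraspecial hS).1.1.to_subgroup P) x
    exact ⟨k, Subtype.ext (by rw [SubmonoidClass.coe_pow, ← hx, ← map_pow, hk, map_one]; rfl)⟩
  have hRcard : Nat.card R = 2 ^ 23 := by
    have h := η.ker.card_mul_index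
    have hk : Nat.card η.ker = 2 := by
      rw [Nat.card_eq_two_iff]
      refine ⟨1, ⟨⟨tQ, Subgroup.mem_centralizer_singleton_iff.2 rfl⟩, (hη1 _).2 (Or.inr rfl)⟩,
        fun h => htcQ (by
          rw [← show (1 : Q) = tQ from congrArg (fun q : η.ker => ((q : P) : Q)) h]
          exact one_mem _), ?_⟩
      rw [Set.eq_univ_iff_forall]
      rintro ⟨x, hx⟩
      rcases (hη1 x).1 hx with h' | h'
      · left; exact Subtype.ext (Subtype.ext h')
      · right; exact Subtype.ext (Subtype.ext h')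
    rw [hk, Subgroup.index_ker, card_perp hS hψ htU] at h
    show Nat.card η.range = 2 ^ 23
    omega
  have hRex : IsExtraspecial 2 R := by
    refine isExtraspecial_of_center hR2 zR (fun h => hzη (congrArg Subtype.val h)) hRcen ?_ ?_ ?_
    · rintro ⟨_, x, rfl⟩ ⟨_, y, rfl⟩
      rcases hcenQ _ (comm_mem_center (extraspecial hS) (x : Q) y) with h | h
      · left; refine Subtype.ext ?_
        simp only [Subgroup.coe_mul, InvMemClass.coe_inv, ← map_inv, ← map_mul]
        exact (hη1 _).2 (Or.inl h)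
      · right; refine Subtype.ext ?_
        simp only [Subgroup.coe_mul, InvMemClass.coe_inv, ← map_inv, ← map_mul]
        exact congrArg η (Subtype.ext h)
    · rintro ⟨_, x, rfl⟩
      rcases hcenQ _ (sq_mem_center (extraspecial hS) (x : Q)) with h | h
      · left; refine Subtype.ext ?_
        simp only [Subgroup.coe_mul, ← map_mul]
        exact (hη1 _).2 (Or.inl h)
      · right; refine Subtype.ext ?_
        simp only [Subgroup.coe_mul, ← map_mul]
        exact congrArg η (Subtype.ext h)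
    · by_contra! hab
      have htop : Subgroup.center R = ⊤ := eq_top_iff.2 fun a _ => Subgroup.mem_center_iff.2 fun b => hab b a
      have hle : Nat.card R ≤ 2 := by
        have h1 : (Set.univ : Set R) ⊆ {1, zR} := fun r _ => (hRcen r).1 (htop ▸ Subgroup.mem_top r)
        have := Set.ncard_le_ncard h1 (Set.toFinite _)
        rw [Set.ncard_univ] at this
        exact this.trans ((Set.ncard_insert_le _ _).trans (by rw [Set.ncard_singleton]))
      rw [hRcard] at hle
      norm_num at hle
  -- the generalised Fitting subgroup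
  have hlift : ∀ (w : leechLattice), (16 : ℤ) ∣ dotInt (w : GolayPt → ℤ) Spor.vecU →
      ∃ x : P, ψ w = QuotientGroup.mk (x : Q) := by
    intro w hw
    obtain ⟨x, hx⟩ := QuotientGroup.mk_surjective (ψ w)
    exact ⟨⟨x, Subgroup.mem_centralizer_singleton_iff.2 ((commute_iff_dot hS hψ htU hx.symm).2 hw)⟩, hx.symm⟩
  have hact : ∀ (a : CT) (x : P), ∀ w : leechLattice, ψ w = QuotientGroup.mk (x : Q) →
      ∀ y : P, πc a * η x * (πc a)⁻¹ = η y →
      ψ ((σ a : Co0) • w) = QuotientGroup.mk (y : Q) ∨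
        ψ ((σ a : Co0) • w) = QuotientGroup.mk ((y : Q) * tQ) := by
    intro a x w hw y hy
    have h1 := psi_smul hψ (g := (σ a : Co0)) (hσf a) hw
    have h2 : π ((incl y : T)⁻¹ * ((a : T) * (incl x : T) * (a : T)⁻¹)) = 1 := by
      rw [map_mul, map_inv, map_mul, map_mul, map_inv]
      have h2 := congrArg Subtype.val hy
      rw [inv_mul_eq_one]
      exact h2.symm
    rcases (hπ1 _).1 h2 with h3 | h3
    · left
      rw [h1]; congr 1
      exact Subtype.ext (Subtype.ext (inv_mul_eq_one.1 h3).symm)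
    · right
      rw [h1]; congr 1
      refine Subtype.ext (Subtype.ext ?_)
      simp only [Subgroup.coe_mul, htt]
      exact inv_mul_eq_iff_eq_mul.1 h3
  have hcharR : Subgroup.centralizer (R : Set (Subgroup.centralizer ({zb} : Set D))) ≤ R := by
    intro d hd
    obtain ⟨a, rfl⟩ := hπc d
    rw [hRker, MonoidHom.mem_ker, hσb]
    refine Subtype.ext (eq_one_of_trivial_perp (σ a).2 fun w hw => ?_)
    obtain ⟨x, hx⟩ := hlift w (by rw [hw]; exact dvd_zero _)
    have hc := Subgroup.mem_centralizer_iff.1 hd (η x) ⟨x, rfl⟩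
    rcases hact a x w hx x (by rw [← hc, mul_inv_cancel_right]) with h | h
    · left; rwa [← psi_eq_iff hψ, hx]
    · right
      rw [← psi_eq_iff hψ, h, psi_add hψ, hx, htU]; rfl
  have : Fact (Nat.Prime 2) := ⟨Nat.prime_two⟩
  have hcore : pCore 2 (Subgroup.centralizer ({zb} : Set D)) = R := by
    refine le_antisymm ?_ (CfsgLib.Cores.le_pCore (N := R) hR2)
    have hnorm := (inferInstance : (pCore 2 (Subgroup.centralizer ({zb} : Set D))).Normal).map σb hσbs
    have hbot : ((pCore 2 (Subgroup.centralizer ({zb} : Set D))).map σb).map stabU.subtype = ⊥ := by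
      refine normal_two_subgroup_min sqNorm_leechU ?_
        (((CfsgLib.Cores.isPGroup_pCore 2).map σb).map _) ?_
      · rintro _ ⟨g, -, rfl⟩; exact g.2
      · rintro s hs _ ⟨g, hg, rfl⟩
        exact ⟨⟨s, hs⟩ * g * (⟨s, hs⟩ : stabU)⁻¹, hnorm.conj_mem g hg _, rfl⟩
    rw [Subgroup.map_eq_bot_iff_of_injective _ stabU.subtype_injective, Subgroup.map_eq_bot_iff] at hbot
    rw [hRker]
    exact hbot
  have hF : generalizedFittingSubgroup (Subgroup.centralizer ({zb} : Set D)) = R := by
    have hcp : CfsgLib.Local.HasCharP 2 (Subgroup.centralizer ({zb} : Set D)) := by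
      rw [CfsgLib.Local.HasCharP, hcore]; exact hcharR
    rw [hcp.generalizedFittingSubgroup_eq, hcore]
  -- the map of modules
  have hperp : ∀ x : leechPerpU, (16 : ℤ) ∣ dotInt ((x : leechLattice) : GolayPt → ℤ) Spor.vecU :=
    fun x => x.2
  choose lift hliftspec using fun x : leechPerpU => hlift _ (hperp x)
  let ψ' : leechPerpU → R ⧸ Subgroup.center R := fun x => QuotientGroup.mk ⟨η (lift x), lift x, rfl⟩
  have hψ' : ∀ (x : leechPerpU) (y : P),
      ψ (x : leechLattice) = QuotientGroup.mk (y : Q) ∨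
        ψ (x : leechLattice) = QuotientGroup.mk ((y : Q) * tQ) →
      ψ' x = QuotientGroup.mk ⟨η y, y, rfl⟩ := by
    intro x y hy
    refine QuotientGroup.eq.2 ((hRcen _).2 ?_)
    have htP : tQ ∈ P := Subgroup.mem_centralizer_singleton_iff.2 rfl
    have hηt : η ⟨tQ, htP⟩ = 1 := (hη1 _).2 (Or.inr rfl)
    have h1 : ∃ y' : P, η y' = η y ∧
        (QuotientGroup.mk ((lift x) : Q) : Q ⧸ Subgroup.center Q) = QuotientGroup.mk (y' : Q) := by
      rcases hy with h | h
      · exact ⟨y, rfl, (hliftspec x).symm.trans h⟩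
      · exact ⟨y * ⟨tQ, htP⟩, by rw [map_mul, hηt, mul_one], (hliftspec x).symm.trans h⟩
    obtain ⟨y', hy', hyq⟩ := h1
    rcases hcenQ _ (QuotientGroup.eq.1 hyq) with h | h
    · left; refine Subtype.ext ?_
      simp only [Subgroup.coe_mul, InvMemClass.coe_inv, ← hy', ← map_inv, ← map_mul]
      exact (hη1 _).2 (Or.inl h)
    · right; refine Subtype.ext ?_
      simp only [Subgroup.coe_mul, InvMemClass.coe_inv, ← hy', ← map_inv, ← map_mul]
      exact congrArg η (Subtype.ext h)
  have hquot : ∀ d, (QuotientGroup.quotientKerEquivOfSurjective σb hσbs) (QuotientGroup.mk d) = σb d :=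
    fun _ => rfl
  let ee : (Subgroup.centralizer ({zb} : Set D)) ⧸ R ≃* Spor.Co2 :=
    (QuotientGroup.quotientMulEquivOfEq hRker).trans
      ((QuotientGroup.quotientKerEquivOfSurjective σb hσbs).trans stabUEquiv)
  refine ⟨zb, R, hRn, ⟨hzb2, hF, hRex, hRcard, ?_⟩, ee, ψ', ⟨?_, ?_, ?_, ?_⟩⟩
  · -- not weakly closed
    obtain ⟨a, x, v, hv, hva, hxc, hx1, hax⟩ := exists_shared_involution hS hψ
    obtain ⟨h, hh⟩ := conj_of_same hψ hS (Or.inl rfl) hv sqNorm_leechU hva htU
    have hh' : (h : G) * ((a : (Subgroup.centralizer ({z} : Set G))) : G) * (h : G)⁻¹ = t := by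
      have := congrArg Subtype.val hh
      simpa [htt] using this
    set s : G := (h : G) * ((x : (Subgroup.centralizer ({z} : Set G))) : G) * (h : G)⁻¹ with hs
    have hsconj : IsConj z s := hxc.trans (isConj_iff.2 ⟨h, rfl⟩)
    have hs1 : s ≠ z := fun hsz => hx1 (by
      have h1 : ((x : (Subgroup.centralizer ({z} : Set G))) : G) = (h : G)⁻¹ * s * (h : G) := by rw [hs]; group
      rw [h1, hsz, mul_assoc, ← commute_z h]; group)
    have hsQ : s ∈ qG Q :=
      ⟨h * (x : (Subgroup.centralizer ({z} : Set G))) * h⁻¹, (inferInstance : Q.Normal).conj_mem _ x.2 h, by simp [hs]⟩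
    have hts : t ∈ coreC s := by
      rw [hs, coreC_conj]
      exact ⟨_, hax, by simp [hh']⟩
    obtain ⟨-, -, hzs, hgs⟩ := core_facts hS hψ hsQ hsconj hs1
    have hgz := goodAt hψ hS
    have hst : s * t = t * s := (Subgroup.mem_centralizer_singleton_iff.1 (coreC_le_centralizer s hts)).symm
    have hsz : s * z = z * s := Subgroup.mem_centralizer_singleton_iff.1 (qG_le_centralizer hsQ)
    have hss : s * s = 1 := by
      obtain ⟨k, hk⟩ := isConj_iff.1 hsconj
      rw [← hk]
      calc k * z * k⁻¹ * (k * z * k⁻¹) = k * (z * z) * k⁻¹ := by group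
        _ = 1 := by rw [hzz]; group
    have hne_t : ¬ IsConj z t := htz
    have hsnot : s ∉ Subgroup.closure ({z, t} : Set G) := fun hm => by
      rcases mem_closure_pair_cases hzz htt2 hztc hm with h1 | h1 | h1 | h1
      · obtain ⟨k, hk⟩ := isConj_iff.1 hsconj
        rw [h1] at hk
        exact z_ne_one hS (conj_eq_one_iff.1 hk)
      · exact hs1 h1
      · exact hne_t (h1 ▸ hsconj)
      · exact hzt (h1 ▸ hsconj)
    have htq : t ∈ coreC z := by rw [coreC_eq hS, ← htt]; exact coe_mem_qG tQ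
    obtain ⟨q, hq, hqM, hqs⟩ := hgz.exists_move (Subgroup.closure ({z, t} : Set G))
      (Subgroup.subset_closure (Set.mem_insert _ _))
      ((Subgroup.closure_le _).2 (Set.pair_subset hgz.mem_self htq))
      (coreC_eq hS ▸ hsQ) hsnot
    have hznot : z ∉ Subgroup.closure ({s, t} : Set G) := fun hm => by
      rcases mem_closure_pair_cases hss htt2 hst hm with h1 | h1 | h1 | h1
      · exact z_ne_one hS h1
      · exact hs1 h1.symm
      · exact htnz h1.symm
      · refine hne_t (hsconj.trans (isConj_iff.2 ⟨q, ?_⟩))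
        rw [hqs, h1, mul_assoc, ← hst, ← mul_assoc, hss, one_mul]
    obtain ⟨r, hr, hrM, hrz⟩ := hgs.exists_move (Subgroup.closure ({s, t} : Set G))
      (Subgroup.subset_closure (Set.mem_insert _ _))
      ((Subgroup.closure_le _).2 (Set.pair_subset hgs.mem_self hts)) hzs hznot
    have hnT : q⁻¹ * r ∈ T := mul_mem
      (inv_mem (Subgroup.mem_centralizer_singleton_iff.2
        (hqM t (Subgroup.subset_closure (Set.mem_insert_of_mem _ rfl)))))
      (Subgroup.mem_centralizer_singleton_iff.2
        (hrM t (Subgroup.subset_closure (Set.mem_insert_of_mem _ rfl))))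
    have hmove : q⁻¹ * r * z * (q⁻¹ * r)⁻¹ = s := by
      calc q⁻¹ * r * z * (q⁻¹ * r)⁻¹ = q⁻¹ * (r * z * r⁻¹) * q := by group
        _ = q⁻¹ * (s * z) * q := by rw [hrz]
        _ = q⁻¹ * (q * s * q⁻¹) * q := by rw [hsz, hqs]
        _ = s := by group
    have hsT : s ∈ T := Subgroup.mem_centralizer_singleton_iff.2 hst
    have hsC : s ∈ (Subgroup.centralizer ({z} : Set G)) := qG_le_centralizer hsQ
    let sT : T := ⟨s, hsT⟩
    have hg : π ⟨q⁻¹ * r, hnT⟩ * zb * (π ⟨q⁻¹ * r, hnT⟩)⁻¹ = π sT := by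
      rw [hzb, ← map_inv, ← map_mul, ← map_mul]
      exact congrArg π (Subtype.ext hmove)
    refine ⟨π ⟨q⁻¹ * r, hnT⟩, ⟨?_, ?_⟩, ?_⟩
    · rw [hg]; exact hmemC ⟨sT, hsC⟩
    · have he : (⟨π ⟨q⁻¹ * r, hnT⟩ * zb * (π ⟨q⁻¹ * r, hnT⟩)⁻¹, by rw [hg]; exact hmemC ⟨sT, hsC⟩⟩ :
          Subgroup.centralizer ({zb} : Set D)) = πc ⟨sT, hsC⟩ := Subtype.ext hg
      rw [he, hRker, MonoidHom.mem_ker, hσb, hσ1]
      exact (mem_qG_iff.1 hsQ).2
    · rw [hg]
      intro h1
      have h2 : π ((⟨z, hzT⟩ : T)⁻¹ * sT) = 1 := by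
        rw [map_mul, map_inv, h1]; exact inv_mul_cancel _
      rcases (hπ1 _).1 h2 with h3 | h3
      · exact hs1 (inv_mul_eq_one.1 h3).symm
      · exact hzt ((inv_mul_eq_iff_eq_mul.1 h3) ▸ hsconj)
  · intro x y
    rw [hψ' (x + y) (lift x * lift y) (Or.inl (by
      rw [AddSubgroup.coe_add, psi_add hψ, hliftspec x, hliftspec y]; rfl))]
    show QuotientGroup.mk (_ : R) = QuotientGroup.mk (_ * _ : R)
    exact congrArg _ (Subtype.ext (map_mul η _ _))
  · intro d
    obtain ⟨⟨_, y, rfl⟩, rfl⟩ := QuotientGroup.mk_surjective d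
    obtain ⟨w, hw⟩ := hψ.2.1 (QuotientGroup.mk (y : Q))
    exact ⟨⟨w, (commute_iff_dot hS hψ htU hw).1 (Subgroup.mem_centralizer_singleton_iff.1 y.2)⟩,
      hψ' _ y (Or.inl hw)⟩
  · intro x
    have hz' : QuotientGroup.mk ((zP : P) : Q) = (1 : Q ⧸ Subgroup.center Q) :=
      (QuotientGroup.eq_one_iff _).2 ((center_cases hS).2 (Or.inr rfl))
    show (QuotientGroup.mk (⟨η (lift x), lift x, rfl⟩ : R) : R ⧸ Subgroup.center R) = 1 ↔ _
    rw [QuotientGroup.eq_one_iff, hRcen]
    constructor
    · intro h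
      have hy : ∃ y' : P, η y' = η (lift x) ∧ (y' = 1 ∨ y' = zP) := by
        rcases h with h | h
        · exact ⟨1, by rw [map_one]; exact (congrArg Subtype.val h).symm, Or.inl rfl⟩
        · exact ⟨zP, (congrArg Subtype.val h).symm, Or.inr rfl⟩
      obtain ⟨y', hy', hy1⟩ := hy
      have h1 : η (y'⁻¹ * lift x) = 1 := by rw [map_mul, map_inv, hy', inv_mul_cancel]
      have hy0 : (QuotientGroup.mk (y' : Q) : Q ⧸ Subgroup.center Q) = 1 := by
        rcases hy1 with rfl | rfl
        · rfl
        · exact hz'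
      have hl : (lift x : Q) = (y' : Q) * ((y'⁻¹ * lift x : P) : Q) := by
        simp
      rcases (hη1 _).1 h1 with h2 | h2
      · left
        refine (hψ.2.2.1 _).1 ?_
        rw [hliftspec x, hl, h2, mul_one, hy0]
      · right
        have hψU : ψ (x : leechLattice) = ψ Spor.leechU := by
          rw [hliftspec x, hl, h2, QuotientGroup.mk_mul, hy0, one_mul, htU]
        obtain ⟨w, hw⟩ := mem_twoMul_iff_add.1 ((psi_eq_iff hψ).1 hψU)
        exact ⟨w, sub_eq_iff_eq_add'.1 hw⟩
    · rintro (⟨w, hw⟩ | ⟨w, hw⟩)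
      · have h0 : ψ' x = QuotientGroup.mk ⟨η 1, 1, rfl⟩ :=
          hψ' x 1 (Or.inl ((hψ.2.2.1 _).2 ⟨w, hw⟩))
        refine (hRcen _).1 ((QuotientGroup.eq_one_iff _).1 (h0.trans ?_))
        exact (QuotientGroup.eq_one_iff _).2 (by
          rw [hRcen]; exact Or.inl (Subtype.ext (map_one η)))
      · have h0 : ψ' x = QuotientGroup.mk ⟨η 1, 1, rfl⟩ := by
          refine hψ' x 1 (Or.inr ?_)
          rw [OneMemClass.coe_one, one_mul, ← htU, psi_eq_iff hψ, hw, add_sub_cancel_left]
          exact mem_twoMul_iff_add.2 ⟨w, rfl⟩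
        refine (hRcen _).1 ((QuotientGroup.eq_one_iff _).1 (h0.trans ?_))
        exact (QuotientGroup.eq_one_iff _).2 (by
          rw [hRcen]; exact Or.inl (Subtype.ext (map_one η)))
  · intro d g hdg x y hxy q hq
    obtain ⟨a, rfl⟩ := hπc d
    obtain ⟨_, k, rfl⟩ := q
    have hg : stabUEquiv (σ a) = g := by
      rw [← hdg]
      show stabUEquiv (σ a) = stabUEquiv (σb (πc a))
      rw [hσb]
    obtain ⟨k', hk'⟩ : πc a * η k * (πc a)⁻¹ ∈ R := hRn.conj_mem _ ⟨k, rfl⟩ _
    -- the lift of `x` differs from `k` by the centre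
    have hk1 := (hRcen _).1 (QuotientGroup.eq.1 hq)
    have hwk : ∃ w : leechLattice, ψ w = QuotientGroup.mk (k : Q) ∧
        (ψ (x : leechLattice) = ψ w ∨ ψ (x : leechLattice) = ψ (w + Spor.leechU)) := by
      obtain ⟨w, hw⟩ := hψ.2.1 (QuotientGroup.mk (k : Q))
      refine ⟨w, hw, ?_⟩
      obtain ⟨c, hc, hc1⟩ : ∃ c : P, η ((lift x)⁻¹ * k) = η c ∧
          (QuotientGroup.mk (c : Q) : Q ⧸ Subgroup.center Q) = 1 := by
        rcases hk1 with h | h
        · exact ⟨1, by rw [map_one, map_mul, map_inv]; exact congrArg Subtype.val h, rfl⟩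
        · exact ⟨zP, by rw [map_mul, map_inv]; exact congrArg Subtype.val h,
            (QuotientGroup.eq_one_iff _).2 ((center_cases hS).2 (Or.inr rfl))⟩
      have h1 : η (c⁻¹ * ((lift x)⁻¹ * k)) = 1 := by rw [map_mul, map_inv, hc, inv_mul_cancel]
      have hkl : (k : Q) = (lift x : Q) * (c : Q) * ((c⁻¹ * ((lift x)⁻¹ * k) : P) : Q) := by
        simp [mul_assoc]
      rcases (hη1 _).1 h1 with h2 | h2
      · left
        rw [hw, hkl, h2, mul_one, QuotientGroup.mk_mul, hc1, mul_one, hliftspec x]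
      · right
        rw [psi_add hψ, hw, hkl, h2, QuotientGroup.mk_mul, QuotientGroup.mk_mul, hc1, mul_one, htU,
          ← hliftspec x, mul_assoc]
        have : (QuotientGroup.mk tQ : Q ⧸ Subgroup.center Q) * QuotientGroup.mk tQ = 1 := by
          rw [← QuotientGroup.mk_mul, tQ_sq hS hψ htU]; rfl
        rw [this, mul_one]
    obtain ⟨w, hw, hxw⟩ := hwk
    have hy : ψ (y : leechLattice) = ψ ((σ a : Co0) • w) ∨
        ψ (y : leechLattice) = ψ ((σ a : Co0) • w + Spor.leechU) := by
      rw [← hxy, ← hg, coe_stabUEquiv_smul]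
      rcases hxw with h | h
      · left
        rw [psi_eq_iff hψ] at h ⊢
        rw [← smul_sub']; exact smul_mem_twoMul _ h
      · right
        rw [psi_eq_iff hψ] at h ⊢
        have h' := smul_mem_twoMul (σ a : Co0) h
        rw [smul_sub', smul_add', MulAction.mem_stabilizer_iff.1 (σ a).2] at h'
        exact h'
    have hres : ψ' y = QuotientGroup.mk ⟨η k', k', rfl⟩ := by
      refine hψ' y k' ?_
      have h3 := hact a k w hw k' hk'.symm
      have htt' : (QuotientGroup.mk tQ : Q ⧸ Subgroup.center Q) * QuotientGroup.mk tQ = 1 := by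
        rw [← QuotientGroup.mk_mul, tQ_sq hS hψ htU]; rfl
      rcases hy with h | h <;> rcases h3 with h' | h'
      · exact Or.inl (h.trans h')
      · exact Or.inr (h.trans h')
      · exact Or.inr (by rw [h, psi_add hψ, h', htU]; rfl)
      · exact Or.inl (by rw [h, psi_add hψ, h', htU, QuotientGroup.mk_mul, mul_assoc, htt', mul_one])
    rw [hres]
    congr 1
    exact Subtype.ext hk'

end CfsgLib.MonsterType
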