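import Cfsg.Agent.Lib.MonsterType.Setting

/-!
# The conjugates of `z` inside `Q`
-/

set_option autoImplicit false

open scoped Pointwise

namespace CfsgLib.MonsterType

open Cfsg CfsgLib.Leech CfsgLib.LargeExtra

/-- The order of a subgroup through its image under a homomorphism. -/
theorem card_eq_map_mul_ker_inf {A B : Type*} [Group A] [Group B] (f : A →* B) (K : Subgroup A) :
    Nat.card K = Nat.card (K.map f) * Nat.card (f.ker ⊓ K : Subgroup A) := by
  have h := (f.comp K.subtype).ker.card_mul_index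
  rw [Subgroup.index_ker, MonoidHom.range_comp, Subgroup.range_subtype, ← MonoidHom.comap_ker] at h
  have e : Nat.card (f.ker.comap K.subtype) = Nat.card (f.ker ⊓ K : Subgroup A) := by
    rw [show f.ker.comap K.subtype = f.ker.subgroupOf K from rfl, ← Subgroup.inf_subgroupOf_right]
    exact Nat.card_congr (Subgroup.subgroupOfEquivOfLe inf_le_right).toEquiv
  rw [e] at h
  rw [← h, mul_comm]

variable {G : Type*} [Group G] {z : G} {Q : Subgroup (Subgroup.centralizer ({z} : Set G))} [Q.Normal]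
  {e : (Subgroup.centralizer ({z} : Set G)) ⧸ Q ≃* Spor.Co1}
  {ψ : leechLattice → Q ⧸ Subgroup.center Q}

/-- The image in `C / Q` of a subgroup of `G` met with the centraliser. -/
def barSub (Q : Subgroup (Subgroup.centralizer ({z} : Set G))) [Q.Normal] (H : Subgroup G) :
    Subgroup ((Subgroup.centralizer ({z} : Set G)) ⧸ Q) :=
  (H.subgroupOf (Subgroup.centralizer ({z} : Set G))).map (QuotientGroup.mk' Q)

theorem mem_barSub {H : Subgroup G} {a : (Subgroup.centralizer ({z} : Set G)) ⧸ Q} :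
    a ∈ barSub Q H ↔ ∃ h : Subgroup.centralizer ({z} : Set G), (h : G) ∈ H ∧ QuotientGroup.mk h = a :=
  Iff.rfl

/-- The centraliser of the conjugate inside the centraliser of `z`. -/
def xSub (Q : Subgroup (Subgroup.centralizer ({z} : Set G))) [Q.Normal] (s : G) :
    Subgroup ((Subgroup.centralizer ({z} : Set G)) ⧸ Q) :=
  barSub Q (Subgroup.centralizer ({z} : Set G) ⊓ Subgroup.centralizer ({s} : Set G))

/-- The image of the core of the conjugate met with the centraliser of `z`. -/
def eSub (Q : Subgroup (Subgroup.centralizer ({z} : Set G))) [Q.Normal] (s : G) :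
    Subgroup ((Subgroup.centralizer ({z} : Set G)) ⧸ Q) :=
  barSub Q (coreC s ⊓ Subgroup.centralizer ({z} : Set G))

theorem eSub_le_xSub [Finite G] (s : G) : eSub Q s ≤ xSub Q s := by
  rintro _ ⟨h, hh, rfl⟩
  exact ⟨h, ⟨h.2, coreC_le_centralizer s hh.1⟩, rfl⟩

theorem eSub_normal [Finite G] (s : G) :
    ∀ a ∈ xSub Q s, ∀ b ∈ eSub Q s, a * b * a⁻¹ ∈ eSub Q s := by
  rintro _ ⟨c, hc, rfl⟩ _ ⟨r, hr, rfl⟩
  refine ⟨c * r * c⁻¹, ⟨?_, ?_⟩, by simp⟩
  · simp only [Subgroup.coe_subtype, Subgroup.coe_mul, InvMemClass.coe_inv]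
    exact (Subgroup.mem_normalizer_iff.1 (centralizer_le_normalizer_coreC s hc.2) _).1 hr.1
  · exact (c * r * c⁻¹).2

theorem isPGroup_eSub [Finite G] (s : G) : IsPGroup 2 (eSub Q s) :=
  (((isPGroup_coreC s).to_le inf_le_left).comap_subtype).map _

section

variable [Finite G] (hS : IsExtraspecialCentralizerSetting z Q 12) (hψ : IsLeechModTwoIso Q e ψ)
  {s : G} (hsQ : s ∈ qG Q) (hs : IsConj z s) (hs1 : s ≠ z)

include hS hψ hsQ hs hs1

theorem core_facts : IsExtraspecial 2 (coreC s) ∧ Nat.card (coreC s) = 2 ^ 25 ∧ z ∈ coreC s ∧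
    GoodAt s := by
  obtain ⟨g, rfl⟩ := isConj_iff.1 hs
  have hz := goodAt hψ hS
  refine ⟨(hz.conj g).2.1, ?_, hz.symm_mem ((coreC_eq hS).symm ▸ hsQ), hz.conj g⟩
  rw [coreC_conj, Subgroup.card_map_of_injective (MulAut.conj g).injective, coreC_eq hS, card_qG hS]

theorem le_card_core_inf : 2 ^ 24 ≤ Nat.card ↥(coreC s ⊓ Subgroup.centralizer ({z} : Set G)) := by
  obtain ⟨hE, hcard, hz, -⟩ := core_facts hS hψ hsQ hs hs1
  have h := card_le_two_mul_centralizer hE (⟨z, hz⟩ : coreC s) ⊤
  rw [Subgroup.card_top, hcard, top_inf_eq] at h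
  have hle : (Subgroup.centralizer ({(⟨z, hz⟩ : coreC s)} : Set (coreC s))).map (coreC s).subtype ≤
      coreC s ⊓ Subgroup.centralizer ({z} : Set G) := by
    rintro _ ⟨a, ha, rfl⟩
    exact ⟨a.2, Subgroup.mem_centralizer_singleton_iff.2
      (congrArg Subtype.val (Subgroup.mem_centralizer_singleton_iff.1 ha))⟩
  have h2 := Subgroup.card_le_of_le hle
  rw [Subgroup.card_map_of_injective (Subgroup.subtype_injective _)] at h2
  omega

theorem card_core_inf_eq : Nat.card ↥(coreC s ⊓ Subgroup.centralizer ({z} : Set G)) =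
    Nat.card (eSub Q s) * Nat.card ↥(qG Q ⊓ coreC s) := by
  have h := card_eq_map_mul_ker_inf (QuotientGroup.mk' Q)
    ((coreC s ⊓ Subgroup.centralizer ({z} : Set G)).subgroupOf (Subgroup.centralizer ({z} : Set G)))
  rw [Nat.card_congr (Subgroup.subgroupOfEquivOfLe inf_le_right).toEquiv, QuotientGroup.ker_mk'] at h
  have e1 : (Q ⊓ (coreC s ⊓ Subgroup.centralizer ({z} : Set G)).subgroupOf
      (Subgroup.centralizer ({z} : Set G))).map (Subgroup.centralizer ({z} : Set G)).subtype =
      qG Q ⊓ coreC s := by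
    ext x
    constructor
    · rintro ⟨a, ⟨ha, hb⟩, rfl⟩
      exact ⟨⟨a, ha, rfl⟩, hb.1⟩
    · rintro ⟨⟨a, ha, rfl⟩, hb⟩
      exact ⟨a, ⟨ha, hb, a.2⟩, rfl⟩
  rw [← Subgroup.card_map_of_injective (K := Q ⊓ (coreC s ⊓ Subgroup.centralizer ({z} : Set G)).subgroupOf
    (Subgroup.centralizer ({z} : Set G)))
    (Subgroup.subtype_injective (Subgroup.centralizer ({z} : Set G))), e1] at h
  exact h

/-- The intersection of the two cores is abelian, hence of order at most 2^13. -/
theorem card_inter_le : Nat.card ↥(qG Q ⊓ coreC s) ≤ 2 ^ 13 := by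
  obtain ⟨hE, -, -, hgs⟩ := core_facts hS hψ hsQ hs hs1
  have hgz := goodAt hψ hS
  have hcomm : ∀ a ∈ qG Q ⊓ coreC s, ∀ b ∈ qG Q ⊓ coreC s, a * b = b * a := by
    intro a ha b hb
    have h1 := hgz.comm_eq ((coreC_eq hS).symm ▸ ha.1) ((coreC_eq hS).symm ▸ hb.1)
    have h2 := hgs.comm_eq ha.2 hb.2
    rcases h1 with h1 | h1
    · rwa [mul_inv_eq_one, mul_inv_eq_iff_eq_mul] at h1
    · rcases h2 with h2 | h2
      · rwa [mul_inv_eq_one, mul_inv_eq_iff_eq_mul] at h2
      · exact absurd (h2.symm.trans h1) hs1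
  have hQe := extraspecial hS
  let j : Q →* G := (Subgroup.centralizer ({z} : Set G)).subtype.comp Q.subtype
  have hj : Function.Injective j :=
    (Subgroup.subtype_injective _).comp (Subgroup.subtype_injective _)
  set A : Subgroup Q := (coreC s).comap j with hA
  have hcardA : Nat.card A = Nat.card ↥(qG Q ⊓ coreC s) := by
    rw [← Subgroup.card_map_of_injective (f := j) (K := A) hj]
    congr 2
    ext x
    constructor
    · rintro ⟨a, ha, rfl⟩; exact ⟨coe_mem_qG a, ha⟩
    · rintro ⟨⟨a, ha, rfl⟩, hb⟩; exact ⟨⟨a, ha⟩, hb, rfl⟩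
  set M := A ⊔ Subgroup.center Q
  have h1 : M ≤ Subgroup.centralizer (A : Set Q) := by
    refine sup_le (fun a ha => Subgroup.mem_centralizer_iff.2 fun b hb => hj ?_)
      (Subgroup.center_le_centralizer _)
    rw [map_mul, map_mul]
    exact hcomm _ ⟨coe_mem_qG b, hb⟩ _ ⟨coe_mem_qG a, ha⟩
  have h2 : M ≤ Subgroup.centralizer (M : Set Q) :=
    sup_le (Subgroup.le_centralizer_iff.1 h1) (Subgroup.center_le_centralizer _)
  have h3 := card_centralizer_mul_card hQe M le_sup_right
  rw [hQe.2, card_Q hS] at h3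
  have h4 := Subgroup.card_le_of_le h2
  have h5 : Nat.card A ≤ Nat.card M := Subgroup.card_le_of_le le_sup_left
  rw [← hcardA]
  nlinarith

end

/-- Membership of the centraliser of the conjugate, read on the lattice. -/
theorem proj_mem_xSub_iff [Finite G] (hS : IsExtraspecialCentralizerSetting z Q 12)
    (hψ : IsLeechModTwoIso Q e ψ) {v : leechLattice} {x : Q} (hx : ψ v = QuotientGroup.mk x)
    (hv : sqNorm (v : GolayPt → ℤ) ≤ 64) (hv0 : sqNorm (v : GolayPt → ℤ) ≠ 0) {g : Co0} :
    proj e g ∈ xSub Q ((x : Subgroup.centralizer ({z} : Set G)) : G) ↔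
      g • v - v ∈ twoMul leechLattice := by
  constructor
  · rintro ⟨c, hc, hcg⟩
    have h := psi_smul hψ (h := c) hcg.symm hx
    rw [← psi_eq_iff hψ, h, hx]
    congr 1
    refine Subtype.ext (Subtype.ext ?_)
    simp only [Subgroup.coe_mul, InvMemClass.coe_inv]
    rw [show (c : G) * _ = _ from Subgroup.mem_centralizer_singleton_iff.1 hc.2]
    group
  · intro hg
    obtain ⟨h, hh⟩ := QuotientGroup.mk_surjective (proj e g)
    have h1 := psi_smul hψ hh.symm hx
    rw [(psi_eq_iff hψ).2 hg, hx] at h1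
    set y : Q := ⟨h * x * h⁻¹, (inferInstance : Q.Normal).conj_mem _ x.2 h⟩ with hy
    have hc : x⁻¹ * y ∈ Subgroup.center Q := QuotientGroup.eq.1 h1
    have hcomm : ∀ k : Subgroup.centralizer ({z} : Set G),
        k * (x : Subgroup.centralizer ({z} : Set G)) * k⁻¹ = x →
        (k : G) ∈ Subgroup.centralizer ({z} : Set G) ⊓
          Subgroup.centralizer ({((x : Subgroup.centralizer ({z} : Set G)) : G)} : Set G) := fun k hk =>
      ⟨k.2, Subgroup.mem_centralizer_singleton_iff.2 (by
        have := congrArg Subtype.val (mul_inv_eq_iff_eq_mul.1 hk)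
        simpa using this)⟩
    rcases (center_cases hS).1 hc with h2 | h2
    · refine ⟨h, Subgroup.mem_subgroupOf.2 (hcomm h ?_), hh⟩
      exact congrArg Subtype.val (inv_mul_eq_one.1 (Subtype.ext (Subtype.ext h2) : x⁻¹ * y = 1)).symm
    · have hxc : x ∉ Subgroup.center Q := fun hc' => hv0 ((mem_center_iff_norm hψ hv hx).1 hc')
      obtain ⟨k, hk⟩ : ∃ k : Q, k * x * k⁻¹ * x⁻¹ ≠ 1 := by
        by_contra! hall
        refine hxc (Subgroup.mem_center_iff.2 fun k => ?_)
        have h4 := hall k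
        rwa [mul_inv_eq_one, mul_inv_eq_iff_eq_mul] at h4
      have h5 := ((center_cases hS).1 (comm_mem_center (extraspecial hS) k x)).resolve_left
        fun h => hk (Subtype.ext (Subtype.ext h))
      have h6 : k * x * k⁻¹ * x⁻¹ = x⁻¹ * y := Subtype.ext (Subtype.ext (h5.trans h2.symm))
      have h7 : y = k * x * k⁻¹ := by
        calc y = x * (x⁻¹ * y) := by group
          _ = (x⁻¹ * y) * x := Subgroup.mem_center_iff.1 hc x
          _ = (k * x * k⁻¹ * x⁻¹) * x := by rw [h6]
          _ = k * x * k⁻¹ := by group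
      have h8 : (k⁻¹ * y * k : Q) = x := by rw [h7]; group
      refine ⟨(k : Subgroup.centralizer ({z} : Set G))⁻¹ * h, Subgroup.mem_subgroupOf.2 (hcomm _ ?_), ?_⟩
      · have h9 := congrArg Subtype.val h8
        simp only [Subgroup.coe_mul, InvMemClass.coe_inv, hy] at h9
        refine Eq.trans ?_ h9
        group
      · show QuotientGroup.mk' Q _ = _
        rw [map_mul, map_inv, show QuotientGroup.mk' Q (k : Subgroup.centralizer ({z} : Set G)) = 1 from
          (QuotientGroup.eq_one_iff _).2 k.2, inv_one, one_mul]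
        exact hh

/-- A conjugate of `z` other than `z` does not have type 32. -/
theorem norm_ne_32 [Finite G] (hS : IsExtraspecialCentralizerSetting z Q 12)
    (hψ : IsLeechModTwoIso Q e ψ) {v : leechLattice} {x : Q} (hx : ψ v = QuotientGroup.mk x)
    (hs : IsConj z ((x : Subgroup.centralizer ({z} : Set G)) : G))
    (hs1 : ((x : Subgroup.centralizer ({z} : Set G)) : G) ≠ z) :
    sqNorm (v : GolayPt → ℤ) ≠ 32 := by
  intro hv
  set s : G := ((x : Subgroup.centralizer ({z} : Set G)) : G) with hsdef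
  have hX : ∀ {g : Co0}, proj e g ∈ xSub Q s ↔ g • v - v ∈ twoMul leechLattice := fun {g} =>
    proj_mem_xSub_iff hS hψ hx (by omega) (by omega)
  set N := (eSub Q s).comap (proj e) ⊓ MulAction.stabilizer Co0 v with hN
  have hnegv : negAut • v ≠ v := fun h => by
    rw [negAut_smul] at h
    have : v = 0 := Subtype.ext (funext fun p => by
      have := congrArg (fun w : leechLattice => (w : GolayPt → ℤ) p) h
      simp only [AddSubgroup.coe_neg, Pi.neg_apply] at this
      show (v : GolayPt → ℤ) p = 0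
      omega)
    rw [this] at hv
    simp [sqNorm] at hv
  have hbot : N = ⊥ := by
    refine normal_two_subgroup_min hv inf_le_right ?_ ?_
    · intro a
      obtain ⟨k, hk⟩ := isPGroup_eSub (Q := Q) s ⟨proj e a, a.2.1⟩
      refine ⟨k, Subtype.ext ?_⟩
      have h1 : proj e ((a : Co0) ^ 2 ^ k) = 1 := by
        rw [map_pow]; exact congrArg Subtype.val hk
      rcases center_co0_cases (proj_eq_one_iff.1 h1) with h | h
      · exact h
      · exfalso
        have := MulAction.mem_stabilizer_iff.1 (pow_mem a.2.2 (2 ^ k))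
        rw [h] at this
        exact hnegv this
    · intro t ht n hn
      refine ⟨?_, ?_⟩
      · show proj e (t * n * t⁻¹) ∈ eSub Q s
        rw [map_mul, map_mul, map_inv]
        refine eSub_normal s _ (hX.2 ?_) _ hn.1
        rw [MulAction.mem_stabilizer_iff.1 ht, sub_self]
        exact zero_mem _
      · exact Subgroup.mul_mem _ (Subgroup.mul_mem _ ht hn.2) (Subgroup.inv_mem _ ht)
  have hE : eSub Q s = ⊥ := by
    rw [Subgroup.eq_bot_iff_forall]
    intro a ha
    obtain ⟨g, rfl⟩ := proj_surjective (e := e) a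
    have hg := hX.1 (eSub_le_xSub s ha)
    rcases eq_or_neg_of_congr32 hg (by rw [sqNorm_smul_co, hv]) hv with h | h
    · have : g ∈ N := ⟨ha, h⟩
      rw [hbot, Subgroup.mem_bot] at this
      rw [this, map_one]
    · have h1 : proj e (negAut * g) = proj e g := by
        rw [map_mul, (proj_eq_one_iff).2 negAut_mem_center, one_mul]
      have : negAut * g ∈ N := by
        refine ⟨?_, MulAction.mem_stabilizer_iff.2 ?_⟩
        · show proj e (negAut * g) ∈ eSub Q s
          rw [h1]; exact ha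
        · rw [mul_smul, h, negAut_smul, neg_neg]
      rw [hbot, Subgroup.mem_bot] at this
      rw [← h1, this, map_one]
  have hsQ : s ∈ qG Q := coe_mem_qG x
  have h1 := le_card_core_inf hS hψ hsQ hs hs1
  have h2 := card_inter_le hS hψ hsQ hs hs1
  rw [card_core_inf_eq hS hψ hsQ hs hs1, hE, Subgroup.card_bot, one_mul] at h1
  omega

/-- A conjugate of `z` in `Q` other than `z` has type 64. -/
theorem exists_type64_of_conj [Finite G] (hS : IsExtraspecialCentralizerSetting z Q 12)
    (hψ : IsLeechModTwoIso Q e ψ) {x : Q}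
    (hs : IsConj z ((x : Subgroup.centralizer ({z} : Set G)) : G))
    (hs1 : ((x : Subgroup.centralizer ({z} : Set G)) : G) ≠ z) :
    ∃ v : leechLattice, sqNorm (v : GolayPt → ℤ) = 64 ∧ ψ v = QuotientGroup.mk x := by
  obtain ⟨g, hg⟩ := isConj_iff.1 hs
  have hsq : x * x = 1 := by
    refine Subtype.ext (Subtype.ext ?_)
    simp only [Subgroup.coe_mul, OneMemClass.coe_one, ← hg]
    calc g * z * g⁻¹ * (g * z * g⁻¹) = g * (z * z) * g⁻¹ := by group
      _ = 1 := by rw [z_sq hS]; group
  have hxc : x ∉ Subgroup.center Q := fun hc => by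
    rcases (center_cases hS).1 hc with h | h
    · rw [← hg] at h
      exact z_ne_one hS (conj_eq_one_iff.1 h)
    · exact hs1 h
  obtain ⟨v, hv, hvx⟩ := exists_type_of_sq hψ hS hxc hsq
  exact ⟨v, hv.resolve_left (norm_ne_32 hS hψ hvx hs hs1), hvx⟩

/-- The conjugates of `z` in `Q` other than `z` are the lifts of vectors of squared length 64. -/
theorem conj_iff_type64 [Finite G] (hS : IsExtraspecialCentralizerSetting z Q 12)
    (hψ : IsLeechModTwoIso Q e ψ) (x : Q) :
    (IsConj z ((x : Subgroup.centralizer ({z} : Set G)) : G) ∧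
      ((x : Subgroup.centralizer ({z} : Set G)) : G) ≠ z) ↔
      ∃ v : leechLattice, sqNorm (v : GolayPt → ℤ) = 64 ∧ ψ v = QuotientGroup.mk x := by
  constructor
  · rintro ⟨h1, h2⟩
    exact exists_type64_of_conj hS hψ h1 h2
  · rintro ⟨v, hv, hvx⟩
    have hne : ((x : Subgroup.centralizer ({z} : Set G)) : G) ≠ z := fun h => by
      have := (mem_center_iff_norm hψ (by omega) hvx).1 ((center_cases hS).2 (Or.inr h))
      omega
    refine ⟨?_, hne⟩
    obtain ⟨g, ⟨hq, hqQ⟩, hgz⟩ := hS.2.2.2.2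
    obtain ⟨w, hw, hwy⟩ := exists_type64_of_conj hS hψ (x := ⟨⟨g * z * g⁻¹, hq⟩, hqQ⟩)
      (isConj_iff.2 ⟨g, rfl⟩) hgz
    obtain ⟨h, hh⟩ := conj_of_same hψ hS (Or.inr (Or.inr rfl)) hw hv hwy hvx
    refine isConj_iff.2 ⟨(h : G) * g, ?_⟩
    have h' := congrArg Subtype.val hh
    simp only [Subgroup.coe_mul, InvMemClass.coe_inv] at h'
    rw [← h']
    group

/-- Two elements of the same type are conjugate under the centraliser, in `G`. -/
theorem conj_in_centralizer [Finite G] (hS : IsExtraspecialCentralizerSetting z Q 12)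
    (hψ : IsLeechModTwoIso Q e ψ) {v w : leechLattice} {x y : Q} {n : ℤ}
    (hn : n = 32 ∨ n = 48 ∨ n = 64) (hv : sqNorm (v : GolayPt → ℤ) = n)
    (hw : sqNorm (w : GolayPt → ℤ) = n) (hx : ψ v = QuotientGroup.mk x) (hy : ψ w = QuotientGroup.mk y) :
    ∃ h ∈ Subgroup.centralizer ({z} : Set G), h * ((x : Subgroup.centralizer ({z} : Set G)) : G) * h⁻¹ =
      ((y : Subgroup.centralizer ({z} : Set G)) : G) := by
  obtain ⟨h, hh⟩ := conj_of_same hψ hS hn hv hw hx hy
  have h' := congrArg Subtype.val hh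
  simp only [Subgroup.coe_mul, InvMemClass.coe_inv] at h'
  exact ⟨h, h.2, h'⟩

end CfsgLib.MonsterType
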