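import Cfsg.Agent.Lib.MonsterType.Conjugates

/-!
# The centraliser of a second conjugate inside the centraliser of `z`
-/

set_option autoImplicit false

open scoped Pointwise

namespace CfsgLib.MonsterType

open Cfsg CfsgLib.Golay CfsgLib.Leech CfsgLib.LargeExtra

/-- The stabiliser of the standard cross is the stabiliser of the class of the base vector. -/
theorem mem_crossStab_iff_congr {g : Co0} :
    g ∈ crossStab ↔ g • baseVec - baseVec ∈ twoMul leechLattice := by
  have hn : leechEven.b (g • baseVec) (g • baseVec) = 8 :=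
    inner_self_of_norm (by rw [sqNorm_smul_co, baseVec, coe_axisVec, sqNorm_single]; norm_num)
  rw [crossStab, MulAction.mem_stabilizer_iff, stdSet_eq_cls8, smul_cls8]
  constructor
  · intro h
    have h1 : g • baseVec ∈ leechEven.cls8 baseVec := h ▸ self_mem_cls8 hn
    have := neg_mem h1.2
    rwa [neg_sub] at this
  · intro h
    refine cls8_eq ⟨hn, ?_⟩
    have := neg_mem h
    rwa [neg_sub] at this

/-- The monomial form of an element of the stabiliser of the cross is unique. -/
theorem exists_unique_perm (g : crossStab) :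
    ∃ σ : M24, ∃ (c : Finset GolayPt) (hc : CodeSet c), (g : Co0) = monoAut σ σ.2 c hc := by
  obtain ⟨σ, hσ, c, hc, h⟩ := exists_monoAut_of_mem g.2
  exact ⟨⟨σ, hσ⟩, c, hc, h⟩

/-- The underlying permutation. -/
noncomputable def permOfMono (g : crossStab) : M24 := (exists_unique_perm g).choose

theorem permOfMono_eq {g : crossStab} {σ : Equiv.Perm GolayPt} {hσ : σ ∈ M24} {c : Finset GolayPt}
    {hc : CodeSet c} (h : (g : Co0) = monoAut σ hσ c hc) : (permOfMono g : Equiv.Perm GolayPt) = σ := by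
  obtain ⟨d, hd, h'⟩ := (exists_unique_perm g).choose_spec
  exact (monoAut_injective (h'.symm.trans h)).1

theorem smul_axis_monoAut (σ : Equiv.Perm GolayPt) (hσ : σ ∈ M24) (c : Finset GolayPt) (hc : CodeSet c)
    (p : GolayPt) (t : ℤ) (ht : (8 : ℤ) ∣ t) :
    ((monoAut σ hσ c hc • axisVec p t ht : leechLattice) : GolayPt → ℤ) =
      Pi.single (σ p) (if σ p ∈ c then -t else t) := by
  rw [coe_monoAut_smul, coe_axisVec, signedPerm_single]

/-- The permutation part as a homomorphism. -/
noncomputable def permPart : crossStab →* M24 :=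
  MonoidHom.mk' permOfMono fun a b => by
    obtain ⟨σ, hσ, c, hc, ha⟩ := exists_monoAut_of_mem a.2
    obtain ⟨τ, hτ, d, hd, hb⟩ := exists_monoAut_of_mem b.2
    obtain ⟨ρ, hρ, f, hf, hab⟩ := exists_monoAut_of_mem (a * b).2
    refine Subtype.ext ?_
    rw [Subgroup.coe_mul, permOfMono_eq ha, permOfMono_eq hb, permOfMono_eq hab]
    refine Equiv.ext fun p => ?_
    by_contra hne
    have h1 : ((monoAut ρ hρ f hf • axisVec p 8 dvd_rfl : leechLattice) : GolayPt → ℤ) =
        ((monoAut σ hσ c hc • monoAut τ hτ d hd • axisVec p 8 dvd_rfl : leechLattice) : GolayPt → ℤ) := by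
      rw [← hab, Subgroup.coe_mul, mul_smul, ha, hb]
    rw [coe_monoAut_smul σ, smul_axis_monoAut τ, smul_axis_monoAut ρ, signedPerm_single] at h1
    have h2 := congrFun h1 (ρ p)
    rw [Pi.single_eq_same, Pi.single_eq_of_ne (show ρ p ≠ σ (τ p) from hne)] at h2
    split at h2 <;> omega

theorem permPart_monoAut (σ : Equiv.Perm GolayPt) (hσ : σ ∈ M24) (c : Finset GolayPt) (hc : CodeSet c) :
    permPart ⟨monoAut σ hσ c hc, monoAut_mem σ hσ c hc⟩ = ⟨σ, hσ⟩ :=
  Subtype.ext (permOfMono_eq rfl)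

/-- The permutations inside the stabiliser of the cross. -/
def permLift : M24 →* crossStab :=
  MonoidHom.mk' (fun σ => ⟨monoAut σ σ.2 ∅ codeSet_empty, monoAut_mem _ _ _ _⟩) fun a b =>
    Subtype.ext (co_ext fun v => Subtype.ext (funext fun i => by
      simp only [Subgroup.coe_mul, mul_smul, coe_monoAut_smul, signedPerm, Finset.notMem_empty, if_false]
      rfl))

theorem permPart_permLift (σ : M24) : permPart (permLift σ) = σ :=
  permPart_monoAut _ _ _ _

theorem card_ker_permPart : Nat.card permPart.ker = 4096 := by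
  have h := permPart.ker.card_mul_index
  rw [Subgroup.index_ker, MonoidHom.range_eq_top.2 (fun σ => ⟨_, permPart_permLift σ⟩), Subgroup.card_top,
    card_crossStab, card_M24] at h
  exact Nat.eq_of_mul_eq_mul_right (by norm_num : 0 < 244823040) h

theorem sq_of_mem_ker {g : crossStab} (hg : g ∈ permPart.ker) : g * g = 1 := by
  obtain ⟨σ, hσ, c, hc, h⟩ := exists_monoAut_of_mem g.2
  have h1 : σ = 1 := by
    rw [← permOfMono_eq h]
    exact congrArg Subtype.val (show permPart g = 1 from hg)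
  subst h1
  refine Subtype.ext (co_ext fun v => Subtype.ext (funext fun i => ?_))
  rw [Subgroup.coe_mul, mul_smul, h, coe_monoAut_smul, coe_monoAut_smul]
  simp only [signedPerm, OneMemClass.coe_one, one_smul]
  by_cases hi : i ∈ c <;> simp [hi, Equiv.Perm.one_symm, Equiv.Perm.one_apply]

theorem negAut_eq_monoAut : negAut = monoAut 1 (one_mem _) Finset.univ codeSet_univ :=
  co_ext fun v => Subtype.ext (funext fun i => by
    rw [coe_negAut_smul, coe_monoAut_smul]
    simp [signedPerm, Equiv.Perm.one_symm, Equiv.Perm.one_apply])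

theorem negAut_mem_crossStab : negAut ∈ crossStab := negAut_eq_monoAut ▸ monoAut_mem _ _ _ _

theorem permPart_center {g : crossStab} (hg : (g : Co0) ∈ Subgroup.center Co0) : permPart g = 1 := by
  rcases center_co0_cases hg with h | h
  · rw [show g = 1 from Subtype.ext h, map_one]
  · rw [show g = ⟨negAut, negAut_mem_crossStab⟩ from Subtype.ext h]
    exact Subtype.ext (permOfMono_eq negAut_eq_monoAut)

variable {G : Type*} [Group G] {z : G} {Q : Subgroup (Subgroup.centralizer ({z} : Set G))} [Q.Normal]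
  {e : (Subgroup.centralizer ({z} : Set G)) ⧸ Q ≃* Spor.Co1}
  {ψ : leechLattice → Q ⧸ Subgroup.center Q}

/-- The monomial group mapped to the stabiliser of a class. -/
noncomputable def frameMap (e : (Subgroup.centralizer ({z} : Set G)) ⧸ Q ≃* Spor.Co1) (g₀ : Co0) :
    crossStab →* (Subgroup.centralizer ({z} : Set G)) ⧸ Q :=
  (proj e).comp ((MulAut.conj g₀⁻¹).toMonoidHom.comp crossStab.subtype)

theorem frameMap_apply (g₀ : Co0) (m : crossStab) : frameMap e g₀ m = proj e (g₀⁻¹ * m * g₀) := by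
  simp [frameMap]

theorem mem_ker_frameMap {g₀ : Co0} {m : crossStab} :
    m ∈ (frameMap e g₀).ker ↔ (m : Co0) ∈ Subgroup.center Co0 := by
  rw [MonoidHom.mem_ker, frameMap_apply, proj_eq_one_iff]
  constructor
  · intro h
    have h' := (Subgroup.Normal.conj_mem inferInstance _ h g₀)
    rwa [show g₀ * (g₀⁻¹ * (m : Co0) * g₀) * g₀⁻¹ = m by group] at h'
  · intro h
    have h' := (Subgroup.Normal.conj_mem inferInstance _ h g₀⁻¹)
    rwa [inv_inv] at h'

theorem card_ker_frameMap (g₀ : Co0) : Nat.card (frameMap e g₀).ker = 2 := by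
  have he : (frameMap e g₀).ker = (Subgroup.center Co0).subgroupOf crossStab := by
    ext m; exact mem_ker_frameMap
  have hle : Subgroup.center Co0 ≤ crossStab := fun g hg => by
    rcases center_co0_cases hg with rfl | rfl
    exacts [one_mem _, negAut_mem_crossStab]
  rw [he, Nat.card_congr (Subgroup.subgroupOfEquivOfLe hle).toEquiv, card_center_co0]

/-- The structure of the two-point configuration, in the coordinates of a frame. -/
theorem frame_facts [Finite G] (hS : IsExtraspecialCentralizerSetting z Q 12)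
    (hψ : IsLeechModTwoIso Q e ψ) {v : leechLattice} {x : Q} (hvx : ψ v = QuotientGroup.mk x)
    (hv : sqNorm (v : GolayPt → ℤ) = 64)
    (hs : IsConj z ((x : Subgroup.centralizer ({z} : Set G)) : G))
    (hs1 : ((x : Subgroup.centralizer ({z} : Set G)) : G) ≠ z)
    {g₀ : Co0} (hg₀ : g₀ • v - baseVec ∈ twoMul leechLattice) :
    (Nat.card ↥(qG Q ⊓ coreC ((x : Subgroup.centralizer ({z} : Set G)) : G)) = 2 ^ 13 ∧
      IsElementaryAbelian 2 (eSub Q ((x : Subgroup.centralizer ({z} : Set G)) : G)) ∧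
      Nat.card (eSub Q ((x : Subgroup.centralizer ({z} : Set G)) : G)) = 2 ^ 11 ∧
      ∃ K : Subgroup ((Subgroup.centralizer ({z} : Set G)) ⧸ Q),
        K ≤ xSub Q ((x : Subgroup.centralizer ({z} : Set G)) : G) ∧
          eSub Q ((x : Subgroup.centralizer ({z} : Set G)) : G) ⊓ K = ⊥ ∧
          eSub Q ((x : Subgroup.centralizer ({z} : Set G)) : G) ⊔ K =
            xSub Q ((x : Subgroup.centralizer ({z} : Set G)) : G) ∧ Nonempty (K ≃* M24)) ∧
      eSub Q ((x : Subgroup.centralizer ({z} : Set G)) : G) = permPart.ker.map (frameMap e g₀) := by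
  set s : G := ((x : Subgroup.centralizer ({z} : Set G)) : G) with hsdef
  have hsQ : s ∈ qG Q := coe_mem_qG x
  set φ := frameMap e g₀ with hφ
  have hXiff : ∀ {g : Co0}, proj e g ∈ xSub Q s ↔ g • v - v ∈ twoMul leechLattice := fun {g} =>
    proj_mem_xSub_iff hS hψ hvx (by omega) (by omega)
  have hmove : ∀ {g : Co0}, g • v - v ∈ twoMul leechLattice ↔ g₀ * g * g₀⁻¹ ∈ crossStab := by
    intro g
    rw [mem_crossStab_iff_congr]
    have h1 := smul_mem_twoMul (g₀ * g * g₀⁻¹) hg₀
    rw [smul_sub', mul_smul, inv_smul_smul, mul_smul g₀] at h1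
    constructor
    · intro h
      have h2 := smul_mem_twoMul g₀ h
      rw [smul_sub'] at h2
      have h3 := add_mem (sub_mem h2 h1) hg₀
      convert h3 using 1
      rw [mul_smul, mul_smul]
      abel
    · intro h
      have h3 := sub_mem (add_mem h1 h) hg₀
      have h4 := smul_mem_twoMul g₀⁻¹ h3
      convert h4 using 1
      have e1 : g₀ • g • v - (g₀ * g * g₀⁻¹) • baseVec + ((g₀ * g * g₀⁻¹) • baseVec - baseVec) -
          (g₀ • v - baseVec) = g₀ • (g • v - v) := by
        rw [smul_sub']; abel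
      simp only [mul_smul] at e1 ⊢
      rw [e1, inv_smul_smul]
  have hrange : φ.range = xSub Q s := by
    ext a
    constructor
    · rintro ⟨m, rfl⟩
      rw [hφ, frameMap_apply, hXiff, hmove]
      rw [show g₀ * (g₀⁻¹ * (m : Co0) * g₀) * g₀⁻¹ = m by group]
      exact m.2
    · intro ha
      obtain ⟨g, rfl⟩ := proj_surjective (e := e) a
      refine ⟨⟨g₀ * g * g₀⁻¹, hmove.1 (hXiff.1 ha)⟩, ?_⟩
      rw [hφ, frameMap_apply]
      congr 1
      group
  have hkerle : φ.ker ≤ permPart.ker := fun m hm => permPart_center (mem_ker_frameMap.1 hm)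
  -- the preimage of the normal 2-subgroup lies in the sign changes
  set T := (eSub Q s).comap φ with hT
  have hTnormal : T.Normal := ⟨fun m hm k => by
    show φ (k * m * k⁻¹) ∈ eSub Q s
    rw [map_mul, map_mul, map_inv]
    exact eSub_normal s _ (hrange ▸ ⟨k, rfl⟩) _ hm⟩
  have hT2 : IsPGroup 2 T :=
    (isPGroup_eSub s).comap_of_ker_isPGroup φ (IsPGroup.of_card (n := 1) (card_ker_frameMap g₀))
  have hTle : T ≤ permPart.ker := by
    have hsurj : Function.Surjective permPart := fun σ => ⟨_, permPart_permLift σ⟩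
    have hn := hTnormal.map permPart hsurj
    have hsimple := M24_simple
    rcases hsimple.eq_bot_or_eq_top_of_normal _ hn with h | h
    · exact (Subgroup.map_eq_bot_iff _).1 h
    · exfalso
      have h2 := hT2.map permPart
      have : Fact (Nat.Prime 2) := ⟨Nat.prime_two⟩
      obtain ⟨k, hk⟩ := IsPGroup.iff_card.1 h2
      rw [h, Subgroup.card_top, card_M24] at hk
      have h3 : 3 ∣ 2 ^ k := hk ▸ (by norm_num)
      exact absurd (Nat.prime_three.dvd_of_dvd_pow h3) (by norm_num)
  have hTmap : T.map φ = eSub Q s := by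
    rw [hT, Subgroup.map_comap_eq, inf_eq_right, hrange]
    exact eSub_le_xSub s
  have hcardT : Nat.card T = Nat.card (eSub Q s) * 2 := by
    rw [card_eq_map_mul_ker_inf φ T, hTmap, inf_eq_left.2 (show φ.ker ≤ T from fun m hm => by
      show φ m ∈ eSub Q s
      rw [MonoidHom.mem_ker.1 hm]; exact one_mem _), hφ, card_ker_frameMap]
  have : Finite permPart.ker := Nat.finite_of_card_ne_zero (by rw [card_ker_permPart]; norm_num)
  have hcardT' : Nat.card T ≤ 4096 := card_ker_permPart ▸ Subgroup.card_le_of_le hTle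
  have h1 := le_card_core_inf hS hψ hsQ hs hs1
  have h2 := card_inter_le hS hψ hsQ hs hs1
  rw [card_core_inf_eq hS hψ hsQ hs hs1] at h1
  have hE11 : Nat.card (eSub Q s) = 2 ^ 11 := by
    refine le_antisymm (by omega) ?_
    by_contra hlt
    nlinarith
  have hA13 : Nat.card ↥(qG Q ⊓ coreC s) = 2 ^ 13 := by
    refine le_antisymm h2 ?_
    rw [hE11] at h1
    omega
  have hTeq : T = permPart.ker :=
    Subgroup.eq_of_le_of_card_ge hTle (by rw [card_ker_permPart, hcardT, hE11]; norm_num)
  have hEeq : eSub Q s = permPart.ker.map φ := by rw [← hTeq, hTmap]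
  have hsq : ∀ a ∈ eSub Q s, a * a = 1 := by
    intro a ha
    rw [hEeq] at ha
    obtain ⟨m, hm, rfl⟩ := ha
    rw [← map_mul, sq_of_mem_ker hm, map_one]
  refine ⟨⟨hA13, ⟨⟨⟨fun a b => Subtype.ext ?_⟩⟩, fun a ha => by rw [sq]; exact hsq a ha⟩, hE11,
    (φ.comp permLift).range, ?_, ?_, ?_, ?_⟩, hEeq⟩
  · calc (a : (Subgroup.centralizer ({z} : Set G)) ⧸ Q) * b = ((a : (Subgroup.centralizer ({z} : Set G)) ⧸ Q) * b)⁻¹ :=
        (inv_eq_of_mul_eq_one_left (hsq _ (mul_mem a.2 b.2))).symm
      _ = (b : (Subgroup.centralizer ({z} : Set G)) ⧸ Q)⁻¹ * (a : (Subgroup.centralizer ({z} : Set G)) ⧸ Q)⁻¹ :=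
        mul_inv_rev _ _
      _ = (b : (Subgroup.centralizer ({z} : Set G)) ⧸ Q) * a := by
        rw [inv_eq_of_mul_eq_one_left (hsq _ a.2), inv_eq_of_mul_eq_one_left (hsq _ b.2)]
  · rw [← hrange]
    rintro _ ⟨σ, rfl⟩
    exact ⟨_, rfl⟩
  · rw [Subgroup.eq_bot_iff_forall]
    rintro _ ⟨ha, σ, rfl⟩
    have h3 : permLift σ ∈ T := ha
    have h4 := hTle h3
    rw [MonoidHom.mem_ker, permPart_permLift] at h4
    rw [h4, map_one]
  · refine le_antisymm (sup_le (eSub_le_xSub s) ?_) ?_
    · rw [← hrange]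
      rintro _ ⟨σ, rfl⟩
      exact ⟨_, rfl⟩
    · rw [← hrange]
      rintro _ ⟨m, rfl⟩
      have hd : m * (permLift (permPart m))⁻¹ ∈ permPart.ker := by
        rw [MonoidHom.mem_ker, map_mul, map_inv, permPart_permLift, mul_inv_cancel]
      have h3 : φ m = φ (m * (permLift (permPart m))⁻¹) * φ (permLift (permPart m)) := by
        rw [← map_mul, inv_mul_cancel_right]
      rw [h3]
      exact Subgroup.mul_mem_sup (hEeq ▸ ⟨_, hd, rfl⟩) ⟨_, rfl⟩
  · refine ⟨(MonoidHom.ofInjective ?_).symm⟩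
    rw [injective_iff_map_eq_one]
    intro σ hσ
    have h3 : permLift σ ∈ φ.ker := hσ
    have h4 := hkerle h3
    rwa [MonoidHom.mem_ker, permPart_permLift] at h4

/-- The whole structure of the two-point configuration. -/
theorem frame_structure [Finite G] (hS : IsExtraspecialCentralizerSetting z Q 12)
    (hψ : IsLeechModTwoIso Q e ψ) {s : G} (hsQ : s ∈ qG Q) (hs : IsConj z s) (hs1 : s ≠ z) :
    Nat.card ↥(qG Q ⊓ coreC s) = 2 ^ 13 ∧ IsElementaryAbelian 2 (eSub Q s) ∧
      Nat.card (eSub Q s) = 2 ^ 11 ∧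
      ∃ K : Subgroup ((Subgroup.centralizer ({z} : Set G)) ⧸ Q),
        K ≤ xSub Q s ∧ eSub Q s ⊓ K = ⊥ ∧ eSub Q s ⊔ K = xSub Q s ∧ Nonempty (K ≃* M24) := by
  obtain ⟨hsc, hsQ'⟩ := mem_qG_iff.1 hsQ
  obtain ⟨v, hv, hvx⟩ := exists_type64_of_conj hS hψ (x := ⟨⟨s, hsc⟩, hsQ'⟩) hs hs1
  obtain ⟨g₀, hg₀⟩ := exists_congr_smul (v := v) (w := baseVec)
    (inner_self_of_norm (by rw [hv]; norm_num)) baseVec_eight
  exact (frame_facts hS hψ hvx hv hs hs1 hg₀).1

/-- The image of the second core is the image of the sign changes. -/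
theorem eSub_eq_image [Finite G] (hS : IsExtraspecialCentralizerSetting z Q 12)
    (hψ : IsLeechModTwoIso Q e ψ) {v : leechLattice} {x : Q} (hvx : ψ v = QuotientGroup.mk x)
    (hv : sqNorm (v : GolayPt → ℤ) = 64)
    (hs : IsConj z ((x : Subgroup.centralizer ({z} : Set G)) : G))
    (hs1 : ((x : Subgroup.centralizer ({z} : Set G)) : G) ≠ z)
    {g₀ : Co0} (hg₀ : g₀ • v - baseVec ∈ twoMul leechLattice) :
    eSub Q ((x : Subgroup.centralizer ({z} : Set G)) : G) = permPart.ker.map (frameMap e g₀) :=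
  (frame_facts hS hψ hvx hv hs hs1 hg₀).2

end CfsgLib.MonsterType
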