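import Cfsg.Agent.Lib.MonsterType.Mod2
import Cfsg.Agent.Lib.Golay.M24Sub

/-!
# The stabiliser of a minimal vector has no nontrivial normal 2-subgroup
-/

set_option autoImplicit false

open scoped Pointwise

namespace CfsgLib.MonsterType

open Cfsg CfsgLib.Golay CfsgLib.Leech

/-- The base minimal vector in the lattice. -/
def bPlus : leechLattice := ⟨base32, base32_mem.1⟩

/-- Its orthogonal companion in the lattice. -/
def bMinus : leechLattice := ⟨base32neg, base32neg_mem.1⟩

theorem base_facts : sqNorm base32 = 32 ∧ sqNorm base32neg = 32 ∧ dotInt base32 base32neg = 0 := by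
  decide +kernel

theorem card_stab_bPlus : Nat.card (MulAction.stabilizer Co0 bPlus) = 42305421312000 := by
  have horb : MulAction.orbit Co0 bPlus = {v : leechLattice | innerL v v = 4} := by
    ext v
    constructor
    · rintro ⟨g, rfl⟩
      have h : sqNorm ((g • bPlus : leechLattice) : GolayPt → ℤ) = 32 := by
        rw [sqNorm_smul_co]; exact base_facts.1
      have := eight_mul_inner_self (g • bPlus)
      show innerL (g • bPlus) (g • bPlus) = 4
      omega
    · intro hv
      have h : sqNorm (v : GolayPt → ℤ) = 32 := by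
        have := eight_mul_inner_self v
        have hv' : innerL v v = 4 := hv
        omega
      exact exists_smul_eq32 (v := bPlus) base_facts.1 h
  have hi : (MulAction.stabilizer Co0 bPlus).index = 196560 := by
    rw [MulAction.index_stabilizer, horb]
    exact leechEven.count4
  have := (MulAction.stabilizer Co0 bPlus).card_mul_index
  rw [hi, card_co0] at this
  exact Nat.eq_of_mul_eq_mul_right (by norm_num : 0 < 196560) (this.trans (by norm_num))

/-- The code sets avoiding the first two points. -/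
def avoidSets : Set (Finset GolayPt) := {c | CodeSet c ∧ pt 0 ∉ c ∧ pt 1 ∉ c}

theorem ncard_avoidSets : avoidSets.ncard = 1024 := by
  set l := golayList.filter fun n => !n.testBit 0 && !n.testBit 1 with hl
  have h : avoidSets = toSet '' (↑l.toFinset : Set ℕ) := by
    ext s
    simp only [avoidSets, Set.mem_ofPred_eq, CodeSet, mem_supports, hl, Set.mem_image,
      List.coe_toFinset, List.mem_filter, Bool.and_eq_true, Bool.not_eq_true']
    constructor
    · rintro ⟨⟨n, hn, rfl⟩, h0, h1⟩
      rw [pt_mem_toSet (by omega), Bool.not_eq_true] at h0 h1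
      exact ⟨n, ⟨hn, h0, h1⟩, rfl⟩
    · rintro ⟨n, ⟨hn, h0, h1⟩, rfl⟩
      refine ⟨⟨n, hn, rfl⟩, ?_, ?_⟩ <;> rw [pt_mem_toSet (by omega)] <;> simp [h0, h1]
  rw [h, Set.InjOn.ncard_image, Set.ncard_coe_finset, List.toFinset_card_of_nodup,
    ← List.countP_eq_length_filter, countP_golayList]
  · decide +kernel
  · exact golayList_nodup.filter _
  · intro a ha b hb hab
    simp only [hl, List.coe_toFinset, List.mem_filter, Set.mem_ofPred_eq] at ha hb
    exact toSet_injOn a ha.1 b hb.1 hab

theorem mem_stabTwo_iff {σ : Equiv.Perm GolayPt} :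
    σ ∈ stabTwo ↔ σ ∈ M24 ∧ σ (pt 0) = pt 0 ∧ σ (pt 1) = pt 1 := by
  constructor
  · rintro ⟨h1, h2⟩
    exact ⟨h1, h2 _ (by decide +kernel), h2 _ (by decide +kernel)⟩
  · rintro ⟨h1, h2, h3⟩
    refine ⟨h1, fun q hq => ?_⟩
    simp only [List.mem_cons, List.not_mem_nil, or_false] at hq
    rcases hq with hq | hq
    · rw [← pt_ptEquiv q, hq]; exact h2
    · rw [← pt_ptEquiv q, hq]; exact h3

/-- The monomial automorphisms fixing both base vectors. -/
def pairMono : Subgroup Co0 :=
  crossStab ⊓ (MulAction.stabilizer Co0 bPlus ⊓ MulAction.stabilizer Co0 bMinus)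

theorem monoAut_fix {σ : Equiv.Perm GolayPt} (hσ : σ ∈ M24) (h0 : σ (pt 0) = pt 0)
    (h1 : σ (pt 1) = pt 1) {c : Finset GolayPt} (hc : CodeSet c) (hc0 : pt 0 ∉ c) (hc1 : pt 1 ∉ c)
    {x : leechLattice} (hx : ∀ p, p ≠ pt 0 → p ≠ pt 1 → (x : GolayPt → ℤ) p = 0) :
    monoAut σ hσ c hc • x = x := by
  refine Subtype.ext (funext fun i => ?_)
  rw [coe_monoAut_smul]
  simp only [signedPerm]
  have e0 : σ.symm (pt 0) = pt 0 := by rw [Equiv.symm_apply_eq, h0]
  have e1 : σ.symm (pt 1) = pt 1 := by rw [Equiv.symm_apply_eq, h1]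
  rcases eq_or_ne i (pt 0) with rfl | hi0
  · rw [if_neg hc0, e0]
  rcases eq_or_ne i (pt 1) with rfl | hi1
  · rw [if_neg hc1, e1]
  have n0 : σ.symm i ≠ pt 0 := fun h => hi0 (by rw [← Equiv.apply_symm_apply σ i, h, h0])
  have n1 : σ.symm i ≠ pt 1 := fun h => hi1 (by rw [← Equiv.apply_symm_apply σ i, h, h1])
  rw [hx _ n0 n1, hx _ hi0 hi1]
  simp

theorem base_supp (p : GolayPt) (h0 : p ≠ pt 0) (h1 : p ≠ pt 1) : base32 p = 0 ∧ base32neg p = 0 := by
  simp [base32, base32neg, h0, h1]

theorem axis_combination : axisVec (pt 0) 8 dvd_rfl = bPlus + bMinus ∧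
    axisVec (pt 1) 8 dvd_rfl = bPlus - bMinus := by
  have h : Pi.single (pt 0) (8 : ℤ) = base32 + base32neg ∧
      Pi.single (pt 1) (8 : ℤ) = base32 - base32neg := by decide +kernel
  exact ⟨Subtype.ext h.1, Subtype.ext h.2⟩

theorem card_pairMono : Nat.card pairMono = 1024 * 443520 := by
  let φ : avoidSets × stabTwo → pairMono := fun cs =>
    ⟨monoAut cs.2.1 cs.2.2.1 cs.1.1 cs.1.2.1,
      Subgroup.mem_inf.2 ⟨monoAut_mem _ _ _ _, Subgroup.mem_inf.2 ⟨
        MulAction.mem_stabilizer_iff.2 (monoAut_fix _ (mem_stabTwo_iff.1 cs.2.2).2.1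
          (mem_stabTwo_iff.1 cs.2.2).2.2 _ cs.1.2.2.1 cs.1.2.2.2 fun p h0 h1 => (base_supp p h0 h1).1),
        MulAction.mem_stabilizer_iff.2 (monoAut_fix _ (mem_stabTwo_iff.1 cs.2.2).2.1
          (mem_stabTwo_iff.1 cs.2.2).2.2 _ cs.1.2.2.1 cs.1.2.2.2 fun p h0 h1 => (base_supp p h0 h1).2)⟩⟩⟩
  have hφ : Function.Bijective φ := by
    refine ⟨fun a b h => ?_, fun g => ?_⟩
    · obtain ⟨h1, h2⟩ := monoAut_injective (congrArg Subtype.val h)
      exact Prod.ext (Subtype.ext h2) (Subtype.ext h1)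
    · obtain ⟨hg1, hg2⟩ := Subgroup.mem_inf.1 g.2
      obtain ⟨hg2, hg3⟩ := Subgroup.mem_inf.1 hg2
      rw [MulAction.mem_stabilizer_iff] at hg2 hg3
      obtain ⟨σ, hσ, c, hc, h⟩ := exists_monoAut_of_mem hg1
      have key : ∀ p, monoAut σ hσ c hc • axisVec p 8 dvd_rfl = axisVec p 8 dvd_rfl →
          σ p = p ∧ p ∉ c := by
        intro p hp
        have h' := congrArg Subtype.val hp
        rw [coe_monoAut_smul, coe_axisVec, signedPerm_single] at h'
        have hsp : σ p = p := by
          by_contra hne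
          have := congrFun h' p
          rw [Pi.single_eq_of_ne (Ne.symm hne), Pi.single_eq_same] at this
          omega
        rw [hsp] at h'
        have := congrFun h' p
        rw [Pi.single_eq_same, Pi.single_eq_same] at this
        refine ⟨hsp, fun hpc => ?_⟩
        rw [if_pos hpc] at this
        omega
      obtain ⟨h0, hc0⟩ := key (pt 0) (by rw [← h, axis_combination.1, smul_add', hg2, hg3])
      obtain ⟨h1, hc1⟩ := key (pt 1) (by rw [← h, axis_combination.2, smul_sub', hg2, hg3])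
      exact ⟨(⟨c, hc, hc0, hc1⟩, ⟨σ, mem_stabTwo_iff.2 ⟨hσ, h0, h1⟩⟩), Subtype.ext h.symm⟩
  rw [← Nat.card_eq_of_bijective φ hφ, Nat.card_prod, Nat.card_coe_set_eq, ncard_avoidSets, card_stabTwo]

theorem cover_avoid : ∀ p : GolayPt, p ≠ pt 0 → p ≠ pt 1 →
    p ∈ toSet 14661236 ∨ p ∈ toSet 11463048 := by decide +kernel

/-- A normal 2-subgroup of the stabiliser sends the companion vector to plus or minus itself. -/
theorem smul_bMinus_eq {N : Subgroup Co0} (hle : N ≤ MulAction.stabilizer Co0 bPlus)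
    (h2 : IsPGroup 2 N) (hnorm : ∀ s ∈ MulAction.stabilizer Co0 bPlus, ∀ n ∈ N, s * n * s⁻¹ ∈ N)
    {n : Co0} (hn : n ∈ N) : n • bMinus = bMinus ∨ n • bMinus = -bMinus := by
  classical
  set S := MulAction.stabilizer Co0 bPlus with hS
  set N' := N.subgroupOf S with hN'
  have hnormal : N'.Normal := ⟨fun m hm s => hnorm s s.2 m hm⟩
  set H := MulAction.stabilizer S bMinus with hH
  have hSfin : Finite S := Nat.finite_of_card_ne_zero (by rw [hS, card_stab_bPlus]; norm_num)
  -- the 2-part of the index of the stabiliser of the companion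
  have hH17 : 2 ^ 17 ∣ Nat.card H := by
    have hle' : pairMono ≤ (MulAction.stabilizer Co0 bPlus ⊓ MulAction.stabilizer Co0 bMinus) := inf_le_right
    have h := Subgroup.card_dvd_of_le hle'
    have e : (MulAction.stabilizer Co0 bPlus ⊓ MulAction.stabilizer Co0 bMinus).subgroupOf S = H := by
      ext s
      rw [Subgroup.mem_subgroupOf, Subgroup.mem_inf, hH, MulAction.mem_stabilizer_iff,
        MulAction.mem_stabilizer_iff, MulAction.mem_stabilizer_iff]
      exact ⟨fun h => h.2, fun h => ⟨s.2, h⟩⟩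
    rw [← e, Nat.card_congr (Subgroup.subgroupOfEquivOfLe inf_le_left).toEquiv]
    refine dvd_trans ?_ h
    rw [card_pairMono]
    norm_num
  -- the orbit of the companion under the normal subgroup
  have horb : (MulAction.orbit N' bMinus).ncard * Nat.card H ∣ Nat.card S := by
    have e1 : (MulAction.orbit N' bMinus).ncard = H.relIndex N' := by
      rw [← MulAction.index_stabilizer]
      rfl
    have h1 := Subgroup.relIndex_mul_relIndex ⊥ (N' ⊓ H) H bot_le inf_le_right
    have h2' := Subgroup.relIndex_mul_relIndex ⊥ (N' ⊓ H) N' bot_le inf_le_left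
    have h3 := Subgroup.relIndex_mul_relIndex ⊥ N' (N' ⊔ H) bot_le le_sup_left
    simp only [Subgroup.relIndex_bot_left, Subgroup.inf_relIndex_left, Subgroup.inf_relIndex_right] at h1 h2' h3
    rw [Subgroup.relIndex_sup_left] at h3
    have e2 : Nat.card ↥(N' ⊔ H) = H.relIndex N' * Nat.card H := by
      rw [← h3, ← h1, ← h2']
      ring
    rw [e1, ← e2]
    exact Subgroup.card_subgroup_dvd_card _
  have hN2 : IsPGroup 2 N' :=
    h2.of_equiv (Subgroup.subgroupOfEquivOfLe hle).symm
  have : Fact (Nat.Prime 2) := ⟨Nat.prime_two⟩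
  have : Finite (MulAction.orbit N' bMinus) := (Set.finite_range _).to_subtype
  obtain ⟨k, hk⟩ := hN2.card_orbit bMinus
  rw [Nat.card_coe_set_eq] at hk
  have hk1 : k ≤ 1 := by
    by_contra hk1
    have h4 : 2 ^ 2 * 2 ^ 17 ∣ Nat.card S :=
      dvd_trans (mul_dvd_mul (hk ▸ pow_dvd_pow 2 (by omega)) hH17) horb
    rw [hS, card_stab_bPlus] at h4
    norm_num at h4
  have hsmall : (MulAction.orbit N' bMinus).ncard ≤ 2 := by
    rw [hk]
    calc 2 ^ k ≤ 2 ^ 1 := Nat.pow_le_pow_right (by norm_num) hk1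
      _ = 2 := by norm_num
  by_cases hfix : n • bMinus = bMinus
  · exact Or.inl hfix
  -- the image is fixed by the sign changes avoiding the first two points
  set w := n • bMinus with hw
  have horb_mem : ∀ m ∈ N, m • bMinus ∈ MulAction.orbit N' bMinus := fun m hm =>
    ⟨⟨⟨m, hle hm⟩, hm⟩, rfl⟩
  have hfixw : ∀ s : Co0, s • bPlus = bPlus → s • bMinus = bMinus → s • w = w := by
    intro s hs1 hs2
    have hsm : s • w = (s * n * s⁻¹) • bMinus := by
      rw [hw, smul_smul]
      conv_rhs => rw [mul_smul, show s⁻¹ • bMinus = bMinus from inv_smul_eq_iff.2 hs2.symm]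
    have h1 : s • w ∈ MulAction.orbit N' bMinus :=
      hsm ▸ horb_mem _ (hnorm s (MulAction.mem_stabilizer_iff.2 hs1) n hn)
    have h2' : w ∈ MulAction.orbit N' bMinus := horb_mem n hn
    have h3 : bMinus ∈ MulAction.orbit N' bMinus := MulAction.mem_orbit_self _
    by_contra hne
    have hb : s • w ≠ bMinus := fun h => hfix ((smul_left_cancel_iff s).1 (h.trans hs2.symm))
    have hfin : (MulAction.orbit N' bMinus).Finite :=
      Set.finite_of_ncard_ne_zero (by rw [hk]; positivity)
    have : ({bMinus, w, s • w} : Set leechLattice).ncard ≤ 2 := by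
      refine le_trans (Set.ncard_le_ncard ?_ hfin) hsmall
      intro y hy
      rcases hy with rfl | rfl | rfl
      exacts [h3, h2', h1]
    rw [Set.ncard_insert_of_notMem (by simp [Ne.symm hfix, Ne.symm hb]) ((Set.finite_singleton _).insert _),
      Set.ncard_insert_of_notMem (by simp [Ne.symm hne]) (Set.finite_singleton _), Set.ncard_singleton]
      at this
    omega
  have hzero : ∀ p, p ≠ pt 0 → p ≠ pt 1 → (w : GolayPt → ℤ) p = 0 := by
    intro p hp0 hp1
    have hcs : ∀ m, inCode m = true → pt 0 ∉ toSet m → pt 1 ∉ toSet m → p ∈ toSet m →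
        (w : GolayPt → ℤ) p = 0 := by
      intro m hm hm0 hm1 hpm
      have hC : CodeSet (toSet m) := mem_supports.2 ⟨_, mem_golayList_of_inCode hm, rfl⟩
      have hfixb : ∀ x : leechLattice, (∀ q, q ≠ pt 0 → q ≠ pt 1 → (x : GolayPt → ℤ) q = 0) →
          signAut (toSet m) hC • x = x := by
        intro x hx
        refine Subtype.ext (funext fun i => ?_)
        rw [coe_signAut_smul, signFlip_apply]
        split
        · next h =>
          rw [hx i (fun e => hm0 (e ▸ h)) (fun e => hm1 (e ▸ h))]; rfl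
        · rfl
      have h := congrArg (fun y : leechLattice => (y : GolayPt → ℤ) p)
        (hfixw (signAut (toSet m) hC) (hfixb bPlus fun q h0 h1 => (base_supp q h0 h1).1)
          (hfixb bMinus fun q h0 h1 => (base_supp q h0 h1).2))
      simp only [coe_signAut_smul, signFlip_apply, if_pos hpm] at h
      omega
    rcases cover_avoid p hp0 hp1 with h | h
    · exact hcs _ (by decide +kernel) (by decide +kernel) (by decide +kernel) h
    · exact hcs _ (by decide +kernel) (by decide +kernel) (by decide +kernel) h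
  -- norm and inner product
  have hwn : sqNorm (w : GolayPt → ℤ) = 32 := by rw [hw, sqNorm_smul_co]; exact base_facts.2.1
  have hwd : dotInt (w : GolayPt → ℤ) base32 = 0 := by
    have h := dot_smul_co n bPlus bMinus
    rw [MulAction.mem_stabilizer_iff.1 (hle hn), ← hw] at h
    rw [dotInt_comm]
    exact h.trans base_facts.2.2
  rw [dotInt_base32] at hwd
  have hwn' : (w : GolayPt → ℤ) (pt 0) ^ 2 + (w : GolayPt → ℤ) (pt 1) ^ 2 = 32 := by
    rw [← hwn, sqNorm, ← Finset.sum_pair (f := fun p => (w : GolayPt → ℤ) p ^ 2)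
      (show (pt 0 : GolayPt) ≠ pt 1 by decide +kernel)]
    refine Finset.sum_subset (Finset.subset_univ _) fun p _ hp => ?_
    simp only [Finset.mem_insert, Finset.mem_singleton, not_or] at hp
    rw [hzero p hp.1 hp.2]; norm_num
  have h01 : (w : GolayPt → ℤ) (pt 1) = -(w : GolayPt → ℤ) (pt 0) := by omega
  rw [h01] at hwn'
  have h16 : (w : GolayPt → ℤ) (pt 0) ^ 2 = 4 ^ 2 := by nlinarith
  have hb01 : (bMinus : GolayPt → ℤ) (pt 0) = 4 ∧ (bMinus : GolayPt → ℤ) (pt 1) = -4 := by
    show base32neg (pt 0) = 4 ∧ base32neg (pt 1) = -4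
    decide +kernel
  rcases sq_eq_sq_iff_eq_or_eq_neg.1 h16 with h | h
  · refine Or.inl (Subtype.ext (funext fun p => ?_))
    rcases eq_or_ne p (pt 0) with rfl | hp0
    · rw [h, hb01.1]
    rcases eq_or_ne p (pt 1) with rfl | hp1
    · rw [h01, h, hb01.2]
    rw [hzero p hp0 hp1]
    exact (base_supp p hp0 hp1).2.symm
  · refine Or.inr (Subtype.ext (funext fun p => ?_))
    rw [AddSubgroup.coe_neg, Pi.neg_apply]
    rcases eq_or_ne p (pt 0) with rfl | hp0
    · rw [h, hb01.1]
    rcases eq_or_ne p (pt 1) with rfl | hp1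
    · rw [h01, h, hb01.2]
    rw [hzero p hp0 hp1, show (bMinus : GolayPt → ℤ) p = 0 from (base_supp p hp0 hp1).2, neg_zero]

/-- The vector with entries four at two places. -/
def pairVec (p q : GolayPt) (s : ℤ) : GolayPt → ℤ := Pi.single p 4 + Pi.single q (4 * s)

theorem pairVec_mem {p q : GolayPt} {s : ℤ} (hs : s = 1 ∨ s = -1) : pairVec p q s ∈ leechLattice := by
  refine mem_leechLattice_iff_form.2 ⟨⟨0, ∅, Pi.single p 1 + Pi.single q s, codeSet_empty,
    fun i => ?_, ?_⟩⟩
  · simp only [pairVec, indi, Finset.notMem_empty, if_false, Pi.add_apply, Pi.single_apply]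
    split_ifs <;> omega
  · simp only [pairVec, Pi.add_apply, Finset.sum_add_distrib, Finset.sum_pi_single', Finset.mem_univ, if_true]
    simp only [Int.ModEq]; omega

/-- An automorphism fixing the base vector and acting as plus or minus one on the minimal vectors
orthogonal to it is trivial. -/
theorem eq_one_of_pm_bPlus {n : Co0} (hfix : n • bPlus = bPlus)
    (hpm : ∀ w : leechLattice, sqNorm (w : GolayPt → ℤ) = 32 → dotInt base32 (w : GolayPt → ℤ) = 0 →
      n • w = w ∨ n • w = -w) : n = 1 := by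
  have hlink : ∀ v w : leechLattice, sqNorm (v : GolayPt → ℤ) = 32 → sqNorm (w : GolayPt → ℤ) = 32 →
      dotInt base32 (v : GolayPt → ℤ) = 0 → dotInt base32 (w : GolayPt → ℤ) = 0 →
      dotInt (v : GolayPt → ℤ) w ≠ 0 → (n • v = v ↔ n • w = w) := by
    intro v w hv hw hv0 hw0 hd
    have hdot := dot_smul_co n v w
    constructor
    · intro h1
      refine (hpm w hw hw0).resolve_right fun h3 => hd ?_
      rw [h1, h3, AddSubgroup.coe_neg, dotInt_neg_right] at hdot
      omega
    · intro h1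
      refine (hpm v hv hv0).resolve_right fun h3 => hd ?_
      rw [h1, h3, AddSubgroup.coe_neg, dotInt_comm, dotInt_neg_right, dotInt_comm] at hdot
      omega
  -- the vectors with two entries four outside the first two points
  let P : GolayPt → GolayPt → Bool → leechLattice := fun p q s =>
    ⟨pairVec p q (if s then 1 else -1), pairVec_mem (by cases s <;> simp)⟩
  have hP : ∀ p q s, p ≠ q → p ≠ pt 0 → p ≠ pt 1 → q ≠ pt 0 → q ≠ pt 1 →
      sqNorm (P p q s : GolayPt → ℤ) = 32 ∧ dotInt base32 (P p q s : GolayPt → ℤ) = 0 := by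
    intro p q s hpq hp0 hp1 hq0 hq1
    constructor
    · show sqNorm (pairVec p q _) = 32
      rw [pairVec, sqNorm_add, sqNorm_single, sqNorm_single, dotInt_single, Pi.single_eq_of_ne hpq.symm]
      cases s <;> norm_num
    · show dotInt base32 (pairVec p q _) = 0
      rw [pairVec, dotInt_add_right, dotInt_single, dotInt_single, (base_supp p hp0 hp1).1,
        (base_supp q hq0 hq1).1]
      simp
  have hL : ∀ p q r s t, p ≠ q → p ≠ r → q ≠ r → p ≠ pt 0 → p ≠ pt 1 → q ≠ pt 0 → q ≠ pt 1 →
      r ≠ pt 0 → r ≠ pt 1 → (n • P p q s = P p q s ↔ n • P p r t = P p r t) := by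
    intro p q r s t hpq hpr hqr hp0 hp1 hq0 hq1 hr0 hr1
    obtain ⟨h1, h1'⟩ := hP p q s hpq hp0 hp1 hq0 hq1
    obtain ⟨h3, h3'⟩ := hP p r t hpr hp0 hp1 hr0 hr1
    refine hlink _ _ h1 h3 h1' h3' ?_
    show dotInt (pairVec p q _) (pairVec p r _) ≠ 0
    rw [pairVec, pairVec, dotInt_add_right, dotInt_single, dotInt_single]
    simp [Pi.single_eq_of_ne hpr.symm, Pi.single_eq_of_ne hqr.symm, Pi.single_eq_of_ne hpq]
  have hsymm : ∀ p q, P p q true = P q p true := fun p q => Subtype.ext (by
    show pairVec p q 1 = pairVec q p 1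
    simp [pairVec, add_comm])
  have hall : ∀ p q s a c t, p ≠ q → a ≠ c → p ≠ pt 0 → p ≠ pt 1 → q ≠ pt 0 → q ≠ pt 1 →
      a ≠ pt 0 → a ≠ pt 1 → c ≠ pt 0 → c ≠ pt 1 → (n • P p q s = P p q s ↔ n • P a c t = P a c t) := by
    intro p q s a c t hpq hac hp0 hp1 hq0 hq1 ha0 ha1 hc0 hc1
    obtain ⟨r, hr⟩ : ∃ r : GolayPt, r ∉ ({pt 0, pt 1, p, q, a, c} : Finset GolayPt) := by
      by_contra! h
      have := Finset.card_le_card (show (Finset.univ : Finset GolayPt) ⊆ _ from fun r _ => h r)
      rw [Finset.card_univ, card_golayPt] at this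
      have h6 := Finset.card_le_six (a := (pt 0 : GolayPt)) (b := pt 1) (c := p) (d := q) (e := a) (f := c)
      omega
    simp only [Finset.mem_insert, Finset.mem_singleton, not_or] at hr
    obtain ⟨hr0, hr1, hrp, hrq, hra, hrc⟩ := hr
    have e1 : n • P p q s = P p q s ↔ n • P r p true = P r p true := by
      rw [hsymm r p]
      exact hL p q r s true hpq (Ne.symm hrp) (Ne.symm hrq) hp0 hp1 hq0 hq1 hr0 hr1
    have e3 : n • P a c t = P a c t ↔ n • P r a true = P r a true := by
      rw [hsymm r a]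
      exact hL a c r t true hac (Ne.symm hra) (Ne.symm hrc) ha0 ha1 hc0 hc1 hr0 hr1
    rw [e1, e3]
    rcases eq_or_ne p a with rfl | hpa
    · exact Iff.rfl
    · exact hL r p a true true hrp hra hpa hr0 hr1 hp0 hp1 ha0 ha1
  -- linking with the companion
  have hC : CodeSet (toSet 5902343) :=
    mem_supports.2 ⟨_, mem_golayList_of_inCode (by decide +kernel), rfl⟩
  let u : leechLattice := ⟨_, two_code_mem_leech hC
    (fun p => if p = pt 1 ∨ p = pt 2 then -1 else 0) (by decide +kernel)⟩
  have hfacts : sqNorm (fun p => 2 * indi (toSet 5902343) p +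
        4 * if p = pt 1 ∨ p = pt 2 then (-1 : ℤ) else 0) = 32 ∧
      dotInt base32 (fun p => 2 * indi (toSet 5902343) p +
        4 * if p = pt 1 ∨ p = pt 2 then (-1 : ℤ) else 0) = 0 ∧
      dotInt base32neg (fun p => 2 * indi (toSet 5902343) p +
        4 * if p = pt 1 ∨ p = pt 2 then (-1 : ℤ) else 0) ≠ 0 ∧
      dotInt (fun p => 2 * indi (toSet 5902343) p +
        4 * if p = pt 1 ∨ p = pt 2 then (-1 : ℤ) else 0) (pairVec (pt 2) (pt 4) 1) ≠ 0 ∧
      (pt 2 : GolayPt) ≠ pt 4 ∧ (pt 2 : GolayPt) ≠ pt 0 ∧ (pt 2 : GolayPt) ≠ pt 1 ∧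
      (pt 4 : GolayPt) ≠ pt 0 ∧ (pt 4 : GolayPt) ≠ pt 1 := by decide +kernel
  obtain ⟨u1, u2, u3, u4, n24, n20, n21, n40, n41⟩ := hfacts
  obtain ⟨h24, h24'⟩ := hP (pt 2) (pt 4) true n24 n20 n21 n40 n41
  have hbP : n • bMinus = bMinus ↔ n • P (pt 2) (pt 4) true = P (pt 2) (pt 4) true :=
    (hlink bMinus u base_facts.2.1 u1 base_facts.2.2 u2 u3).trans (hlink u _ u1 h24 u2 h24' u4)
  have hsum : ∀ p q, P p q true + P p q false = axisVec p 8 dvd_rfl := fun p q => Subtype.ext (by
    show pairVec p q 1 + pairVec p q (-1) = Pi.single p 8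
    funext i
    simp only [pairVec, Pi.add_apply, Pi.single_apply]
    split_ifs <;> omega)
  have hother : ∀ p : GolayPt, ∃ q, q ≠ p ∧ q ≠ pt 0 ∧ q ≠ pt 1 := by decide +kernel
  have hcoord : ∀ (g : Co0) (x : leechLattice) (p q : GolayPt) (e : ℤ),
      g • axisVec p 8 dvd_rfl = e • axisVec q 8 dvd_rfl →
        (x : GolayPt → ℤ) p = e * ((g • x : leechLattice) : GolayPt → ℤ) q := by
    intro g x p q e hg
    have h := dot_smul_co g x (axisVec p 8 dvd_rfl)
    rw [hg, AddSubgroup.coe_zsmul, coe_axisVec, coe_axisVec, dotInt_single] at h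
    have e' : e • (Pi.single q 8 : GolayPt → ℤ) = Pi.single q (e * 8) := by
      funext i; simp [Pi.single_apply, mul_ite]
    rw [e', dotInt_single] at h
    linarith [h]
  by_cases hb : n • bMinus = bMinus
  · refine co_ext fun x => Subtype.ext (funext fun p => ?_)
    rw [one_smul]
    have hax : n • axisVec p 8 dvd_rfl = (1 : ℤ) • axisVec p 8 dvd_rfl := by
      rw [one_zsmul]
      rcases eq_or_ne p (pt 0) with rfl | hp0
      · rw [axis_combination.1, smul_add', hfix, hb]
      rcases eq_or_ne p (pt 1) with rfl | hp1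
      · rw [axis_combination.2, smul_sub', hfix, hb]
      obtain ⟨q, hqp, hq0, hq1⟩ := hother p
      rw [← hsum p q, smul_add',
        (hall p q true (pt 2) (pt 4) true (Ne.symm hqp) n24 hp0 hp1 hq0 hq1 n20 n21 n40 n41).2 (hbP.1 hb),
        (hall p q false (pt 2) (pt 4) true (Ne.symm hqp) n24 hp0 hp1 hq0 hq1 n20 n21 n40 n41).2 (hbP.1 hb)]
    have := hcoord n x p p 1 hax
    omega
  · exfalso
    have hb' : n • bMinus = -bMinus := (hpm bMinus base_facts.2.1 base_facts.2.2).resolve_left hb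
    have hneg : ∀ p, p ≠ pt 0 → p ≠ pt 1 →
        n • axisVec p 8 dvd_rfl = (-1 : ℤ) • axisVec p 8 dvd_rfl := by
      intro p hp0 hp1
      obtain ⟨q, hqp, hq0, hq1⟩ := hother p
      have hm : ∀ s, n • P p q s = -P p q s := fun s =>
        (hpm _ (hP p q s (Ne.symm hqp) hp0 hp1 hq0 hq1).1
          (hP p q s (Ne.symm hqp) hp0 hp1 hq0 hq1).2).resolve_left fun h => hb (hbP.2
            ((hall p q s (pt 2) (pt 4) true (Ne.symm hqp) n24 hp0 hp1 hq0 hq1 n20 n21 n40 n41).1 h))
      rw [← hsum p q, smul_add', hm, hm, neg_one_zsmul, neg_add]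
    have h01 : n • axisVec (pt 0) 8 dvd_rfl = (1 : ℤ) • axisVec (pt 1) 8 dvd_rfl := by
      rw [one_zsmul, axis_combination.1, axis_combination.2, smul_add', hfix, hb', sub_eq_add_neg]
    have h10 : n • axisVec (pt 1) 8 dvd_rfl = (1 : ℤ) • axisVec (pt 0) 8 dvd_rfl := by
      rw [one_zsmul, axis_combination.1, axis_combination.2, smul_sub', hfix, hb', sub_neg_eq_add]
    let X : leechLattice := ⟨fun p => if p = pt 0 then -3 else 1, mem_leechLattice_iff_form.2
      ⟨⟨1, ∅, fun p => if p = pt 0 then -1 else 0, codeSet_empty, fun i => by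
        simp only [indi, Finset.notMem_empty, if_false]; split <;> omega, by decide +kernel⟩⟩⟩
    obtain ⟨m, -, -, hcode⟩ := mem_leechLattice_iff.1 (n • X).2
    have hX : ∀ p, (X : GolayPt → ℤ) p = if p = pt 0 then -3 else 1 := fun _ => rfl
    have hset : (Finset.univ.filter fun i => ((n • X : leechLattice) : GolayPt → ℤ) i ≡ 1 [ZMOD 4]) =
        {pt 0, pt 1} := by
      ext i
      simp only [Finset.mem_filter, Finset.mem_univ, true_and, Finset.mem_insert, Finset.mem_singleton]
      have hne : (pt 1 : GolayPt) ≠ pt 0 := by decide +kernel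
      rcases eq_or_ne i (pt 0) with rfl | hi0
      · have := hcoord n X (pt 1) (pt 0) 1 h10
        rw [hX, if_neg hne] at this
        simp [Int.ModEq]
        omega
      rcases eq_or_ne i (pt 1) with rfl | hi1
      · have := hcoord n X (pt 0) (pt 1) 1 h01
        rw [hX, if_pos rfl] at this
        simp [Int.ModEq]
        omega
      have := hcoord n X i i (-1) (hneg i hi0 hi1)
      rw [hX, if_neg hi0] at this
      simp [Int.ModEq, hi0, hi1]
      omega
    have h8 := codeSet_card (show CodeSet _ from hcode 1)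
    rw [hset, Finset.card_pair (show (pt 0 : GolayPt) ≠ pt 1 by decide +kernel)] at h8
    omega

/-- An automorphism fixing a minimal vector and acting as plus or minus one on the minimal vectors
orthogonal to it is trivial. -/
theorem eq_one_of_pm_orth {u : leechLattice} (hu : sqNorm (u : GolayPt → ℤ) = 32) {n : Co0}
    (hfix : n • u = u)
    (hpm : ∀ w : leechLattice, sqNorm (w : GolayPt → ℤ) = 32 → dotInt (u : GolayPt → ℤ) w = 0 →
      n • w = w ∨ n • w = -w) : n = 1 := by
  obtain ⟨a, ha⟩ := exists_smul_eq_base32 hu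
  have ha' : a • u = bPlus := Subtype.ext ha
  have hau : a⁻¹ • bPlus = u := by rw [inv_smul_eq_iff, ha']
  have h : a * n * a⁻¹ = 1 := by
    refine eq_one_of_pm_bPlus ?_ fun w hw hwd => ?_
    · rw [mul_smul, mul_smul, hau, hfix, ha']
    · have h1 := dot_smul_co a⁻¹ bPlus w
      rw [hau] at h1
      have h2 := hpm (a⁻¹ • w) (by rw [sqNorm_smul_co, hw]) (h1.trans hwd)
      rw [mul_smul, mul_smul]
      rcases h2 with h2 | h2 <;> rw [h2]
      · exact Or.inl (smul_inv_smul a w)
      · exact Or.inr (by rw [smul_neg', smul_inv_smul])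
  calc n = a⁻¹ * (a * n * a⁻¹) * a := by group
    _ = 1 := by rw [h]; group

/-- No nontrivial normal 2-subgroup in the stabiliser of the base vector. -/
theorem normal_two_subgroup_bPlus {N : Subgroup Co0} (hle : N ≤ MulAction.stabilizer Co0 bPlus)
    (h2 : IsPGroup 2 N) (hnorm : ∀ s ∈ MulAction.stabilizer Co0 bPlus, ∀ n ∈ N, s * n * s⁻¹ ∈ N) :
    N = ⊥ := by
  rw [Subgroup.eq_bot_iff_forall]
  intro n hn
  have hfix := MulAction.mem_stabilizer_iff.1 (hle hn)
  -- every orthogonal minimal vector goes to plus or minus itself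
  have hpm : ∀ w : leechLattice, sqNorm (w : GolayPt → ℤ) = 32 → dotInt base32 (w : GolayPt → ℤ) = 0 →
      n • w = w ∨ n • w = -w := by
    intro w hw hwd
    obtain ⟨a, ha1, ha2⟩ := exists_smul_orth (v := bPlus) base_facts.1 hw hwd
    have ha1' : a • bPlus = bPlus := Subtype.ext ha1
    have ha2' : a • w = bMinus := Subtype.ext ha2
    have hmem : a * n * a⁻¹ ∈ N := hnorm a (MulAction.mem_stabilizer_iff.2 ha1') n hn
    have hw' : a⁻¹ • bMinus = w := by rw [inv_smul_eq_iff, ha2']
    rcases smul_bMinus_eq hle h2 hnorm hmem with h | h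
    · left
      rw [mul_smul, mul_smul, hw'] at h
      exact (smul_left_cancel_iff a).1 (h.trans ha2'.symm)
    · right
      rw [mul_smul, mul_smul, hw'] at h
      refine (smul_left_cancel_iff a).1 (h.trans ?_)
      rw [smul_neg', ha2']
  exact eq_one_of_pm_bPlus hfix hpm

/-- No nontrivial normal 2-subgroup in the stabiliser of a minimal vector. -/
theorem normal_two_subgroup_min {v : leechLattice} (hv : sqNorm (v : GolayPt → ℤ) = 32)
    {N : Subgroup Co0} (hle : N ≤ MulAction.stabilizer Co0 v) (h2 : IsPGroup 2 N)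
    (hnorm : ∀ s ∈ MulAction.stabilizer Co0 v, ∀ n ∈ N, s * n * s⁻¹ ∈ N) : N = ⊥ := by
  obtain ⟨g, hg⟩ := exists_smul_eq_base32 hv
  have hg' : g • v = bPlus := Subtype.ext hg
  have hconj : ∀ s : Co0, s • bPlus = bPlus → g⁻¹ * s * g ∈ MulAction.stabilizer Co0 v := fun s hs => by
    rw [MulAction.mem_stabilizer_iff, mul_smul, mul_smul, hg', hs, inv_smul_eq_iff, hg']
  have h := normal_two_subgroup_bPlus (N := N.map (MulAut.conj g).toMonoidHom) ?_ (h2.map _) ?_
  · exact (Subgroup.map_eq_bot_iff_of_injective _ (MulAut.conj g).injective).1 h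
  · rintro _ ⟨m, hm, rfl⟩
    rw [MulAction.mem_stabilizer_iff]
    simp only [MulEquiv.coe_toMonoidHom, MulAut.conj_apply, mul_smul]
    rw [show g⁻¹ • bPlus = v by rw [inv_smul_eq_iff, hg'], MulAction.mem_stabilizer_iff.1 (hle hm), hg']
  · rintro s hs _ ⟨m, hm, rfl⟩
    refine ⟨(g⁻¹ * s * g) * m * (g⁻¹ * s * g)⁻¹, hnorm _ (hconj s (MulAction.mem_stabilizer_iff.1 hs)) m hm, ?_⟩
    simp only [MulEquiv.coe_toMonoidHom, MulAut.conj_apply]
    group

end CfsgLib.MonsterType
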