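import Cfsg.Prelude.Def_Spor_Conway
import Cfsg.Agent.Lib.Leech.Pairs

/-!
# The Leech lattice modulo twice itself

Short representatives of the classes, the kernel of the action of the automorphism group, the
invariant subgroups and the invariant quadratic form.
-/

set_option autoImplicit false

open scoped Pointwise

namespace CfsgLib.MonsterType

open Cfsg CfsgLib.Golay CfsgLib.Leech

/-! ### Short representatives -/

theorem mem_twoMul_iff_add {v : leechLattice} :
    v ∈ twoMul leechLattice ↔ ∃ w : leechLattice, v = w + w := by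
  rw [mem_twoMul]
  simp only [two_zsmul, eq_comm]

theorem exists_short_rep (v : leechLattice) :
    ∃ y : leechLattice, (sqNorm (y : GolayPt → ℤ) = 0 ∨ sqNorm (y : GolayPt → ℤ) = 32 ∨
      sqNorm (y : GolayPt → ℤ) = 48 ∨ sqNorm (y : GolayPt → ℤ) = 64) ∧ v - y ∈ twoMul leechLattice := by
  obtain ⟨y, hy, hc⟩ := leechEven.exists_short v
  refine ⟨y, ?_, hc⟩
  have h8 : 8 * innerL y y = sqNorm (y : GolayPt → ℤ) := eight_mul_inner_self y
  have h16 := sqNorm_dvd_sixteen y.2
  have hy' : innerL y y ≤ 8 := hy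
  rcases eq_or_ne (y : GolayPt → ℤ) 0 with h | h
  · left; simp [h, sqNorm]
  · have := min_norm y.2 h; omega

theorem sqNorm_eq_of_congr {v w : leechLattice} (h : v - w ∈ twoMul leechLattice)
    (hv : sqNorm (v : GolayPt → ℤ) ≤ 64) (hw : sqNorm (w : GolayPt → ℤ) ≤ 64) :
    sqNorm (v : GolayPt → ℤ) = sqNorm (w : GolayPt → ℤ) := by
  obtain ⟨z, hz⟩ := mem_twoMul_iff_add.1 h
  have hz' : (v : GolayPt → ℤ) - w = 2 • (z : GolayPt → ℤ) := by
    rw [← AddSubgroup.coe_sub, hz, AddSubgroup.coe_add, two_nsmul]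
  rcases short_congr w.2 z.2 hz' hv hw with h' | h' | ⟨h1, h2, -⟩
  · rw [h']
  · rw [h', sqNorm_neg]
  · rw [h1, h2]

theorem eq_or_neg_of_congr32 {v w : leechLattice} (h : v - w ∈ twoMul leechLattice)
    (hv : sqNorm (v : GolayPt → ℤ) = 32) (hw : sqNorm (w : GolayPt → ℤ) = 32) : v = w ∨ v = -w := by
  obtain ⟨z, hz⟩ := mem_twoMul_iff_add.1 h
  have hz' : (v : GolayPt → ℤ) - w = 2 • (z : GolayPt → ℤ) := by
    rw [← AddSubgroup.coe_sub, hz, AddSubgroup.coe_add, two_nsmul]
  rcases short_congr w.2 z.2 hz' (by omega) (by omega) with h' | h' | ⟨h1, -, -⟩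
  · exact Or.inl (Subtype.ext h')
  · exact Or.inr (Subtype.ext h')
  · omega

theorem same_shell {v w : leechLattice} {n : ℤ} (hn : n = 32 ∨ n = 48 ∨ n = 64)
    (hv : sqNorm (v : GolayPt → ℤ) = n) (hw : sqNorm (w : GolayPt → ℤ) = n) :
    ∃ g : Co0, g • v - w ∈ twoMul leechLattice := by
  rcases hn with rfl | rfl | rfl
  · obtain ⟨g, hg⟩ := exists_smul_eq32 hv hw
    exact ⟨g, by rw [hg, sub_self]; exact zero_mem _⟩
  · obtain ⟨g, hg⟩ := exists_smul_eq48 hv hw
    exact ⟨g, by rw [hg, sub_self]; exact zero_mem _⟩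
  · exact exists_congr_smul (inner_self_of_norm (n := 8) (by rw [hv]; norm_num))
      (inner_self_of_norm (n := 8) (by rw [hw]; norm_num))

/-! ### Explicit vectors -/

/-- A vector with two entries of absolute value four. -/
def fourTwo (a b : ℕ) (s t : ℤ) : GolayPt → ℤ :=
  fun p => 4 * if p = pt a then s else if p = pt b then t else 0

theorem fourTwo_mem {a b : ℕ} {s t : ℤ}
    (h : (2 : ℤ) ∣ ∑ p : GolayPt, if p = pt a then s else if p = pt b then t else 0) :
    fourTwo a b s t ∈ leechLattice := four_mul_mem_leech _ h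

/-- The lattice vector with two entries of absolute value four. -/
def fourTwoL (a b : ℕ) (s t : ℤ)
    (h : (2 : ℤ) ∣ ∑ p : GolayPt, if p = pt a then s else if p = pt b then t else 0) : leechLattice :=
  ⟨fourTwo a b s t, fourTwo_mem h⟩

theorem negAut_smul (v : leechLattice) : negAut • v = -v := Subtype.ext (coe_negAut_smul v)

theorem negAut_mem_center : negAut ∈ Subgroup.center Co0 := by
  rw [Subgroup.mem_center_iff]
  refine fun g => co_ext fun v => ?_
  rw [mul_smul, mul_smul, negAut_smul, negAut_smul, smul_neg']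

theorem negAut_ne_one : negAut ≠ 1 := fun h => by
  have := congrFun (congrArg (fun g : Co0 => ((g • baseVec : leechLattice) : GolayPt → ℤ)) h) none
  simp [coe_negAut_smul, baseVec, coe_axisVec] at this

theorem center_co0_cases {g : Co0} (hg : g ∈ Subgroup.center Co0) : g = 1 ∨ g = negAut := by
  obtain ⟨u, v, huv, huniv⟩ := Nat.card_eq_two_iff.1 card_center_co0
  have key : ∀ y : Subgroup.center Co0, y = u ∨ y = v := fun y => by
    have := Set.eq_univ_iff_forall.1 huniv y
    simpa using this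
  have hne : (⟨1, one_mem _⟩ : Subgroup.center Co0) ≠ ⟨negAut, negAut_mem_center⟩ :=
    fun h => negAut_ne_one (congrArg Subtype.val h).symm
  rcases key ⟨g, hg⟩ with h | h <;> rcases key ⟨1, one_mem _⟩ with h1 | h1 <;>
    rcases key ⟨negAut, negAut_mem_center⟩ with h2 | h2
  all_goals first
    | exact Or.inl (congrArg Subtype.val (h.trans h1.symm))
    | exact Or.inr (congrArg Subtype.val (h.trans h2.symm))
    | exact absurd (h1.trans h2.symm) hne

theorem smul_eq_sign_of_min {g : Co0} {e : ℤ}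
    (h : ∀ v : leechLattice, sqNorm (v : GolayPt → ℤ) = 32 → g • v = e • v) (v : leechLattice) :
    g • v = e • v := by
  have hv : (v : GolayPt → ℤ) ∈
      AddSubgroup.closure {x : GolayPt → ℤ | x ∈ leechLattice ∧ sqNorm x = 32} := by
    rw [closure_min]; exact v.2
  suffices ∀ x ∈ AddSubgroup.closure {x : GolayPt → ℤ | x ∈ leechLattice ∧ sqNorm x = 32},
      ∀ hx : x ∈ leechLattice, g • (⟨x, hx⟩ : leechLattice) = e • ⟨x, hx⟩ from this _ hv v.2
  intro x hx
  induction hx using AddSubgroup.closure_induction with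
  | mem x hx => exact fun h' => h ⟨x, h'⟩ hx.2
  | zero =>
    intro h'
    rw [show (⟨0, h'⟩ : leechLattice) = 0 from rfl, smul_zero]
    exact map_zero (actHom g)
  | add x y hx hy ihx ihy =>
    intro h'
    rw [closure_min] at hx hy
    rw [show (⟨x + y, h'⟩ : leechLattice) = ⟨x, hx⟩ + ⟨y, hy⟩ from rfl, smul_add', ihx hx, ihy hy,
      smul_add]
  | neg x hx ihx =>
    intro h'
    rw [closure_min] at hx
    rw [show (⟨-x, h'⟩ : leechLattice) = -⟨x, hx⟩ from rfl, smul_neg', ihx hx, smul_neg]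

/-- An automorphism trivial modulo twice the lattice is central. -/
theorem mem_center_of_trivial_mod_two {g : Co0}
    (h : ∀ v : leechLattice, g • v - v ∈ twoMul leechLattice) : g ∈ Subgroup.center Co0 := by
  have hpm : ∀ v : leechLattice, sqNorm (v : GolayPt → ℤ) = 32 → g • v = v ∨ g • v = -v :=
    fun v hv => eq_or_neg_of_congr32 (h v) (by rw [sqNorm_smul_co, hv]) hv
  have hlink : ∀ v w : leechLattice, sqNorm (v : GolayPt → ℤ) = 32 → sqNorm (w : GolayPt → ℤ) = 32 →
      dotInt (v : GolayPt → ℤ) w ≠ 0 → (g • v = v ↔ g • w = w) := by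
    intro v w hv hw hd
    have hdot := dot_smul_co g v w
    constructor
    · intro h1
      refine (hpm w hw).resolve_right fun h2 => hd ?_
      rw [h1, h2, AddSubgroup.coe_neg, dotInt_neg_right] at hdot
      omega
    · intro h1
      refine (hpm v hv).resolve_right fun h2 => hd ?_
      rw [h1, h2, AddSubgroup.coe_neg, dotInt_comm, dotInt_neg_right, dotInt_comm] at hdot
      omega
  let b : leechLattice := ⟨base32, base32_mem.1⟩
  have hb : sqNorm (b : GolayPt → ℤ) = 32 := base32_mem.2
  let u0 : leechLattice := fourTwoL 0 2 1 1 (by decide +kernel)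
  have hu0 : sqNorm (u0 : GolayPt → ℤ) = 32 := by
    show sqNorm (fourTwo 0 2 1 1) = 32; decide +kernel
  have hu1 : dotInt base32 (u0 : GolayPt → ℤ) ≠ 0 := by
    show dotInt base32 (fourTwo 0 2 1 1) ≠ 0; decide +kernel
  have hu2 : dotInt base32neg (u0 : GolayPt → ℤ) ≠ 0 := by
    show dotInt base32neg (fourTwo 0 2 1 1) ≠ 0; decide +kernel
  have hsame : ∀ v : leechLattice, sqNorm (v : GolayPt → ℤ) = 32 → (g • v = v ↔ g • b = b) := by
    intro v hv
    by_cases hd : dotInt (v : GolayPt → ℤ) b = 0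
    · obtain ⟨a, ha1, ha2⟩ := exists_smul_orth hb hv (by rw [dotInt_comm]; exact hd)
      have hn : sqNorm ((a⁻¹ • u0 : leechLattice) : GolayPt → ℤ) = 32 := by rw [sqNorm_smul_co, hu0]
      have d1 := dot_smul_co a b (a⁻¹ • u0)
      have d2 := dot_smul_co a v (a⁻¹ • u0)
      rw [smul_inv_smul, ha1] at d1
      rw [smul_inv_smul, ha2] at d2
      exact (hlink v _ hv hn (d2 ▸ hu2)).trans (hlink b _ hb hn (d1 ▸ hu1)).symm
    · exact hlink v b hv hb hd
  rcases hpm b hb with h1 | h1
  · have : g = 1 := co_ext fun v => by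
      rw [one_smul, smul_eq_sign_of_min (e := 1) (fun w hw => by rw [one_smul]; exact (hsame w hw).2 h1),
        one_smul]
    rw [this]; exact one_mem _
  · have hne : ¬ g • b = b := by
      intro hh
      have h2 : (b : GolayPt → ℤ) (pt 0) = -(b : GolayPt → ℤ) (pt 0) :=
        congrFun (congrArg Subtype.val (hh.symm.trans h1)) (pt 0)
      have h4 : (b : GolayPt → ℤ) (pt 0) = 4 := by
        show base32 (pt 0) = 4; decide +kernel
      omega
    have : g = negAut := co_ext fun v => by
      rw [negAut_smul, smul_eq_sign_of_min (e := -1) (fun w hw => by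
        rw [neg_one_zsmul]
        exact (hpm w hw).resolve_left fun hh => hne ((hsame w hw).1 hh)), neg_one_zsmul]
    rw [this]; exact negAut_mem_center

/-! ### Invariant subgroups -/

theorem base48_mem : base48 ∈ leechLattice ∧ sqNorm base48 = 48 := by
  refine ⟨?_, by decide +kernel⟩
  have hC : CodeSet (toSet baseOctad) :=
    mem_supports.2 ⟨_, mem_golayList_of_inCode (by decide +kernel), rfl⟩
  have h := two_code_mem_leech hC (fun p => if p = pt 5 then 1 else if p = pt 0 then -1 else 0)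
    (by decide +kernel)
  have e : base48 = fun p => 2 * indi (toSet baseOctad) p +
      4 * (if p = pt 5 then (1 : ℤ) else if p = pt 0 then -1 else 0) := by decide +kernel
  rw [e]; exact h

/-- A subgroup between twice the lattice and the lattice, invariant under all automorphisms, is one
of the two. -/
theorem invariant_le_or_eq {M : AddSubgroup leechLattice} (h2 : twoMul leechLattice ≤ M)
    (hinv : ∀ (g : Co0) (v : leechLattice), v ∈ M → g • v ∈ M) : M ≤ twoMul leechLattice ∨ M = ⊤ := by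
  by_cases hM : M ≤ twoMul leechLattice
  · exact Or.inl hM
  right
  obtain ⟨x, hx, hx2⟩ := SetLike.not_le_iff_exists.1 hM
  obtain ⟨y, hy, hxy⟩ := exists_short_rep x
  have hyM : y ∈ M := by
    have := sub_mem hx (h2 hxy)
    rwa [sub_sub_cancel] at this
  have hy0 : sqNorm (y : GolayPt → ℤ) ≠ 0 := fun h => by
    have : y = 0 := Subtype.ext (sqNorm_eq_zero h)
    rw [this, sub_zero] at hxy
    exact hx2 hxy
  have hshell : ∀ w : leechLattice, sqNorm (w : GolayPt → ℤ) = sqNorm (y : GolayPt → ℤ) → w ∈ M := by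
    intro w hw
    have hn : sqNorm (y : GolayPt → ℤ) = 32 ∨ sqNorm (y : GolayPt → ℤ) = 48 ∨
        sqNorm (y : GolayPt → ℤ) = 64 := by omega
    obtain ⟨g, hg⟩ := same_shell hn rfl hw
    have := sub_mem (hinv g y hyM) (h2 hg)
    rwa [sub_sub_cancel] at this
  obtain ⟨x0, hx0n, hx0⟩ : ∃ x0 : leechLattice, sqNorm (x0 : GolayPt → ℤ) = 32 ∧ x0 ∈ M := by
    rcases hy with h | h | h | h
    · exact absurd h hy0
    · exact ⟨y, h, hyM⟩
    · let u : leechLattice := ⟨base48, base48_mem.1⟩
      let w : leechLattice := fourTwoL 5 6 1 1 (by decide +kernel)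
      refine ⟨w, by show sqNorm (fourTwo 5 6 1 1) = 32; decide +kernel, ?_⟩
      have h1 : u ∈ M := hshell u (by rw [h]; exact base48_mem.2)
      have h3 : u - w ∈ M := hshell _ (by
        rw [h, AddSubgroup.coe_sub]
        show sqNorm (base48 - fourTwo 5 6 1 1) = 48
        decide +kernel)
      have := sub_mem h1 h3
      rwa [sub_sub_cancel] at this
    · let a : leechLattice := fourTwoL 4 5 1 1 (by decide +kernel)
      let b : leechLattice := fourTwoL 0 1 1 1 (by decide +kernel)
      let c : leechLattice := fourTwoL 0 2 1 1 (by decide +kernel)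
      have h1 : b + a ∈ M := hshell _ (by
        rw [h, AddSubgroup.coe_add]
        show sqNorm (fourTwo 0 1 1 1 + fourTwo 4 5 1 1) = 64
        decide +kernel)
      have h3 : c + a ∈ M := hshell _ (by
        rw [h, AddSubgroup.coe_add]
        show sqNorm (fourTwo 0 2 1 1 + fourTwo 4 5 1 1) = 64
        decide +kernel)
      refine ⟨b - c, ?_, ?_⟩
      · rw [AddSubgroup.coe_sub]
        show sqNorm (fourTwo 0 1 1 1 - fourTwo 0 2 1 1) = 32
        decide +kernel
      · have := sub_mem h1 h3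
        rwa [add_sub_add_right_eq_sub] at this
  refine eq_top_iff.2 fun v _ => ?_
  have hv : (v : GolayPt → ℤ) ∈
      AddSubgroup.closure {x : GolayPt → ℤ | x ∈ leechLattice ∧ sqNorm x = 32} := by
    rw [closure_min]; exact v.2
  suffices AddSubgroup.closure {x : GolayPt → ℤ | x ∈ leechLattice ∧ sqNorm x = 32} ≤
      M.map leechLattice.subtype by
    obtain ⟨w, hw, hwv⟩ := this hv
    rwa [show v = w from Subtype.ext hwv.symm]
  rw [AddSubgroup.closure_le]
  rintro w ⟨hw, hwn⟩
  obtain ⟨g, hg⟩ := exists_smul_eq32 hx0n (w := ⟨w, hw⟩) hwn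
  exact ⟨⟨w, hw⟩, hg ▸ hinv g x0 hx0, rfl⟩

/-! ### The quadratic form -/

theorem norm_sixteenth_congr {v y : leechLattice} (h : v - y ∈ twoMul leechLattice) :
    ((sqNorm (v : GolayPt → ℤ) / 16 : ℤ) : ZMod 2) = ((sqNorm (y : GolayPt → ℤ) / 16 : ℤ) : ZMod 2) := by
  obtain ⟨z, hz⟩ := mem_twoMul_iff_add.1 h
  have e : (v : GolayPt → ℤ) = (y : GolayPt → ℤ) + (2 : ℤ) • (z : GolayPt → ℤ) := by
    have := congrArg (fun t : leechLattice => (t : GolayPt → ℤ)) (sub_eq_iff_eq_add'.1 hz)
    rw [two_zsmul]; simpa using this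
  have h8 := eight_dvd_dotInt y.2 z.2
  have hz16 := sqNorm_dvd_sixteen z.2
  have hy16 := sqNorm_dvd_sixteen y.2
  have hn : sqNorm (v : GolayPt → ℤ) = sqNorm (y : GolayPt → ℤ) + 4 * dotInt (y : GolayPt → ℤ) z +
      4 * sqNorm (z : GolayPt → ℤ) := by
    rw [e, sqNorm_add, sqNorm_smul]
    have : dotInt (y : GolayPt → ℤ) ((2 : ℤ) • (z : GolayPt → ℤ)) = 2 * dotInt (y : GolayPt → ℤ) z := by
      rw [two_zsmul, dotInt_add_right]; ring
    rw [this]; ring
  rw [ZMod.intCast_eq_intCast_iff']
  push_cast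
  omega

theorem zmod_two_cases : ∀ a : ZMod 2, a = 0 ∨ a = 1 := by decide

theorem add_self_two : ∀ a : ZMod 2, a + a = 0 := by decide

/-- The invariant quadratic form is unique. -/
theorem form_eq (Q : leechLattice → ZMod 2) (hcoset : ∀ v w : leechLattice, Q (v + (w + w)) = Q v)
    (hquad : ∀ u v w : leechLattice, Q (u + v + w) + Q u + Q v + Q w = Q (u + v) + Q (u + w) + Q (v + w))
    (hinv : ∀ (g : Co0) (v : leechLattice), Q (g • v) = Q v) (hne : ∃ v : leechLattice, Q v ≠ 0)
    (v : leechLattice) : Q v = ((sqNorm (v : GolayPt → ℤ) / 16 : ℤ) : ZMod 2) := by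
  have hQ0 : Q 0 = 0 := by
    have := hquad 0 0 0
    simp only [add_zero] at this
    rcases zmod_two_cases (Q 0) with h | h
    · exact h
    · rw [h] at this; exact absurd this (by decide)
  have hcong : ∀ a b : leechLattice, a - b ∈ twoMul leechLattice → Q a = Q b := by
    intro a b hab
    obtain ⟨z, hz⟩ := mem_twoMul_iff_add.1 hab
    rw [sub_eq_iff_eq_add'.1 hz, hcoset]
  have hshell : ∀ {n : ℤ}, (n = 32 ∨ n = 48 ∨ n = 64) → ∀ a b : leechLattice,
      sqNorm (a : GolayPt → ℤ) = n → sqNorm (b : GolayPt → ℤ) = n → Q a = Q b := by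
    intro n hn a b ha hb
    obtain ⟨g, hg⟩ := same_shell hn ha hb
    rw [← hinv g a]; exact hcong _ _ hg
  have hsub : ∀ a b : leechLattice, Q (a - b) = Q (a + b) := fun a b => by
    rw [← hcoset (a + b) (-b)]; congr 1; abel
  let B : leechLattice → leechLattice → ZMod 2 := fun a b => Q (a + b) + Q a + Q b
  have hB : ∀ a b c : leechLattice, B a (b + c) = B a b + B a c := by
    intro a b c
    have h := hquad a b c
    simp only [B, ← add_assoc]
    generalize Q (a + b + c) = A1 at *
    generalize Q (a + b) = A2 at *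
    generalize Q (a + c) = A3 at *
    generalize Q (b + c) = A4 at *
    generalize Q a = A5 at *
    generalize Q b = A6 at *
    generalize Q c = A7 at *
    revert h
    revert A1 A2 A3 A4 A5 A6 A7
    decide
  let m : leechLattice := fourTwoL 0 1 1 1 (by decide +kernel)
  have hm : sqNorm (m : GolayPt → ℤ) = 32 := by show sqNorm (fourTwo 0 1 1 1) = 32; decide +kernel
  let q6 : leechLattice := ⟨base48, base48_mem.1⟩
  let q8 : leechLattice := fourTwoL 0 1 2 0 (by decide +kernel)
  have hq8 : sqNorm (q8 : GolayPt → ℤ) = 64 := by show sqNorm (fourTwo 0 1 2 0) = 64; decide +kernel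
  have b0 : ∀ a b : leechLattice, sqNorm (a : GolayPt → ℤ) = 32 → sqNorm (b : GolayPt → ℤ) = 32 →
      dotInt (a : GolayPt → ℤ) b = 0 → B a b = Q q8 := by
    intro a b ha hb hd
    have hs : sqNorm ((a + b : leechLattice) : GolayPt → ℤ) = 64 := by
      rw [AddSubgroup.coe_add, sqNorm_add, ha, hb, hd]; norm_num
    simp only [B]
    rw [hshell (Or.inr (Or.inr rfl)) _ q8 hs hq8, hshell (Or.inl rfl) b a hb ha, add_assoc,
      add_self_two, add_zero]
  have b8 : ∀ a b : leechLattice, sqNorm (a : GolayPt → ℤ) = 32 → sqNorm (b : GolayPt → ℤ) = 32 →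
      dotInt (a : GolayPt → ℤ) b = 8 → B a b = Q q6 := by
    intro a b ha hb hd
    have hs : sqNorm ((a - b : leechLattice) : GolayPt → ℤ) = 48 := by
      rw [AddSubgroup.coe_sub, sqNorm_sub, ha, hb, hd]; norm_num
    simp only [B]
    rw [← hsub, hshell (Or.inr (Or.inl rfl)) _ q6 hs base48_mem.2, hshell (Or.inl rfl) b a hb ha,
      add_assoc, add_self_two, add_zero]
  have b16 : ∀ a b : leechLattice, sqNorm (a : GolayPt → ℤ) = 32 → sqNorm (b : GolayPt → ℤ) = 32 →
      dotInt (a : GolayPt → ℤ) b = 16 → B a b = Q m := by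
    intro a b ha hb hd
    have hs : sqNorm ((a - b : leechLattice) : GolayPt → ℤ) = 32 := by
      rw [AddSubgroup.coe_sub, sqNorm_sub, ha, hb, hd]; norm_num
    simp only [B]
    rw [← hsub, hshell (Or.inl rfl) _ m hs hm, hshell (Or.inl rfl) b a hb ha,
      add_assoc, add_self_two, add_zero]
  have h8 : Q q8 = 0 := by
    let a : leechLattice := fourTwoL 2 3 1 1 (by decide +kernel)
    let b : leechLattice := fourTwoL 2 4 (-1) 1 (by decide +kernel)
    have hy : sqNorm ((a + b : leechLattice) : GolayPt → ℤ) = 32 := by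
      rw [AddSubgroup.coe_add]
      show sqNorm (fourTwo 2 3 1 1 + fourTwo 2 4 (-1) 1) = 32
      decide +kernel
    have hdy : dotInt (m : GolayPt → ℤ) ((a + b : leechLattice) : GolayPt → ℤ) = 0 := by
      rw [AddSubgroup.coe_add]
      show dotInt (fourTwo 0 1 1 1) (fourTwo 2 3 1 1 + fourTwo 2 4 (-1) 1) = 0
      decide +kernel
    have h1 := hB m a b
    rw [b0 m (a + b) hm hy hdy,
      b0 m a hm (by show sqNorm (fourTwo 2 3 1 1) = 32; decide +kernel)
        (by show dotInt (fourTwo 0 1 1 1) (fourTwo 2 3 1 1) = 0; decide +kernel),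
      b0 m b hm (by show sqNorm (fourTwo 2 4 (-1) 1) = 32; decide +kernel)
        (by show dotInt (fourTwo 0 1 1 1) (fourTwo 2 4 (-1) 1) = 0; decide +kernel),
      add_self_two] at h1
    exact h1
  have h4 : Q m = 0 := by
    have hC : CodeSet (toSet 1302533) :=
      mem_supports.2 ⟨_, mem_golayList_of_inCode (by decide +kernel), rfl⟩
    let a : leechLattice := ⟨_, two_code_mem_leech hC 0 (by simp)⟩
    let y : leechLattice := fourTwoL 0 2 1 1 (by decide +kernel)
    have ha : sqNorm (a : GolayPt → ℤ) = 32 := by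
      show sqNorm (fun p => 2 * indi (toSet 1302533) p + 4 * (0 : ℤ)) = 32
      decide +kernel
    have hda : dotInt (m : GolayPt → ℤ) a = 8 := by
      show dotInt (fourTwo 0 1 1 1) (fun p => 2 * indi (toSet 1302533) p + 4 * (0 : ℤ)) = 8
      decide +kernel
    have hb : sqNorm ((y - a : leechLattice) : GolayPt → ℤ) = 32 := by
      rw [AddSubgroup.coe_sub]
      show sqNorm (fourTwo 0 2 1 1 - fun p => 2 * indi (toSet 1302533) p + 4 * (0 : ℤ)) = 32
      decide +kernel
    have hdb : dotInt (m : GolayPt → ℤ) ((y - a : leechLattice) : GolayPt → ℤ) = 8 := by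
      rw [AddSubgroup.coe_sub]
      show dotInt (fourTwo 0 1 1 1)
        (fourTwo 0 2 1 1 - fun p => 2 * indi (toSet 1302533) p + 4 * (0 : ℤ)) = 8
      decide +kernel
    have h1 := hB m a (y - a)
    rw [add_sub_cancel, b8 m a hm ha hda, b8 m (y - a) hm hb hdb,
      b16 m y hm (by show sqNorm (fourTwo 0 2 1 1) = 32; decide +kernel)
        (by show dotInt (fourTwo 0 1 1 1) (fourTwo 0 2 1 1) = 16; decide +kernel), add_self_two] at h1
    exact h1
  have h6 : Q q6 = 1 := by
    refine (zmod_two_cases _).resolve_left fun h6 => ?_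
    obtain ⟨x, hx⟩ := hne
    obtain ⟨y, hy, hxy⟩ := exists_short_rep x
    apply hx
    rw [hcong _ _ hxy]
    rcases hy with h | h | h | h
    · rw [show y = 0 from Subtype.ext (sqNorm_eq_zero h), hQ0]
    · rw [hshell (Or.inl rfl) y m h hm, h4]
    · rw [hshell (Or.inr (Or.inl rfl)) y q6 h base48_mem.2, h6]
    · rw [hshell (Or.inr (Or.inr rfl)) y q8 h hq8, h8]
  obtain ⟨y, hy, hvy⟩ := exists_short_rep v
  rw [hcong _ _ hvy, norm_sixteenth_congr hvy]
  rcases hy with h | h | h | h <;> rw [h]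
  · rw [show y = 0 from Subtype.ext (sqNorm_eq_zero h), hQ0]; decide
  · rw [hshell (Or.inl rfl) y m h hm, h4]; decide
  · rw [hshell (Or.inr (Or.inl rfl)) y q6 h base48_mem.2, h6]; decide
  · rw [hshell (Or.inr (Or.inr rfl)) y q8 h hq8, h8]; decide

end CfsgLib.MonsterType
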