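import Cfsg.Prelude.Def_MonsterType
import Cfsg.Agent.Lib.MonsterType.MinStab
import Cfsg.Agent.Lib.LargeExtra.Singular
import Cfsg.Agent.Lib.Cores.Fitting
import Cfsg.Agent.Lib.Invol.QDW.Transport

/-!
# The extraspecial centraliser of a group of Monster type

The identification of `Q` modulo its centre with the lattice modulo two carries the squaring map to
the invariant form; conjugates of `z` in `Q` other than `z` correspond to the vectors of squared
length 64.
-/

set_option autoImplicit false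

open scoped Pointwise

namespace CfsgLib.MonsterType

open Cfsg CfsgLib.Leech CfsgLib.LargeExtra

variable {G : Type*} [Group G] {z : G}

/-- The image in `G` of the subgroup `Q` of the centraliser. -/
def qG (Q : Subgroup (Subgroup.centralizer ({z} : Set G))) : Subgroup G :=
  Q.map (Subgroup.centralizer ({z} : Set G)).subtype

variable {Q : Subgroup (Subgroup.centralizer ({z} : Set G))}

theorem coe_mem_qG (x : Q) : ((x : Subgroup.centralizer ({z} : Set G)) : G) ∈ qG Q :=
  ⟨_, x.2, rfl⟩

theorem mem_qG_iff {x : G} : x ∈ qG Q ↔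
    ∃ hx : x ∈ Subgroup.centralizer ({z} : Set G), (⟨x, hx⟩ : Subgroup.centralizer ({z} : Set G)) ∈ Q := by
  constructor
  · rintro ⟨y, hy, rfl⟩; exact ⟨y.2, hy⟩
  · rintro ⟨hx, h⟩; exact ⟨⟨x, hx⟩, h, rfl⟩

theorem qG_le_centralizer : qG Q ≤ Subgroup.centralizer ({z} : Set G) := Subgroup.map_subtype_le _

theorem self_mem_centralizer : z ∈ Subgroup.centralizer ({z} : Set G) :=
  Subgroup.mem_centralizer_singleton_iff.2 rfl

theorem commute_z (h : Subgroup.centralizer ({z} : Set G)) : (h : G) * z = z * (h : G) :=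
  Subgroup.mem_centralizer_singleton_iff.1 h.2

section Core

variable [Finite G] [Q.Normal] (hS : IsExtraspecialCentralizerSetting z Q 12)

include hS

theorem extraspecial : IsExtraspecial 2 Q := hS.2.2.1

theorem card_Q : Nat.card Q = 2 ^ 25 := hS.2.2.2.1

theorem z_ne_one : z ≠ 1 := fun h => by
  have := hS.1
  rw [h, orderOf_one] at this
  omega

theorem z_sq : z * z = 1 := by
  rw [← sq, ← hS.1, pow_orderOf_eq_one]

theorem pCore_eq : pCore 2 (Subgroup.centralizer ({z} : Set G)) = Q := by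
  have : Fact (Nat.Prime 2) := ⟨Nat.prime_two⟩
  refine le_antisymm ((CfsgLib.Cores.pCore_le_fittingSubgroup 2).trans ?_) ?_
  · exact le_of_le_of_eq le_sup_right hS.2.1
  · exact CfsgLib.Cores.le_pCore (extraspecial hS).1.1

omit [Finite G] [Q.Normal] hS in
theorem coreC_eq_map : coreC z =
    (pCore 2 (Subgroup.centralizer ({z} : Set G))).map (Subgroup.centralizer ({z} : Set G)).subtype := rfl

theorem coreC_eq : coreC z = qG Q := by rw [coreC_eq_map, pCore_eq hS, qG]

theorem z_mem : (⟨z, self_mem_centralizer⟩ : Subgroup.centralizer ({z} : Set G)) ∈ Q := by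
  rw [← pCore_eq hS]
  have hc : (⟨z, self_mem_centralizer⟩ : Subgroup.centralizer ({z} : Set G)) ∈
      Subgroup.center (Subgroup.centralizer ({z} : Set G)) :=
    Subgroup.mem_center_iff.2 fun g => Subtype.ext (commute_z g)
  have : (Subgroup.zpowers (⟨z, self_mem_centralizer⟩ : Subgroup.centralizer ({z} : Set G))).Normal :=
    ⟨fun n hn g => by
      rw [Subgroup.mem_center_iff.1 ((Subgroup.zpowers_le.2 hc) hn) g, mul_assoc, mul_inv_cancel, mul_one]
      exact hn⟩
  refine CfsgLib.Cores.le_pCore (IsPGroup.of_card (n := 1) ?_) (Subgroup.mem_zpowers _)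
  rw [Nat.card_zpowers, Subgroup.orderOf_mk, hS.1, pow_one]

theorem z_mem_qG : z ∈ qG Q := ⟨_, z_mem hS, rfl⟩

theorem center_cases {x : Q} : x ∈ Subgroup.center Q ↔
    ((x : Subgroup.centralizer ({z} : Set G)) : G) = 1 ∨
      ((x : Subgroup.centralizer ({z} : Set G)) : G) = z := by
  obtain ⟨c, hc, -, hall⟩ := exists_centre_gen (extraspecial hS)
  have hz : (⟨⟨z, self_mem_centralizer⟩, z_mem hS⟩ : Q) ∈ Subgroup.center Q :=
    Subgroup.mem_center_iff.2 fun g => Subtype.ext (Subtype.ext (commute_z _))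
  have hzc : (⟨⟨z, self_mem_centralizer⟩, z_mem hS⟩ : Q) = c :=
    (hall _ hz).resolve_left fun h => z_ne_one hS (congrArg (fun y : Q => ((y : _) : G)) h)
  constructor
  · intro hx
    rcases hall x hx with rfl | rfl
    · exact Or.inl rfl
    · exact Or.inr (by rw [← hzc])
  · rintro (h | h)
    · rw [show x = 1 from Subtype.ext (Subtype.ext h)]; exact one_mem _
    · rw [show x = ⟨⟨z, self_mem_centralizer⟩, z_mem hS⟩ from Subtype.ext (Subtype.ext h)]; exact hz

theorem center_sq {c : Q} (hc : c ∈ Subgroup.center Q) : c * c = 1 := by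
  refine Subtype.ext (Subtype.ext ?_)
  simp only [Subgroup.coe_mul, OneMemClass.coe_one]
  rcases (center_cases hS).1 hc with h | h <;> rw [h]
  · exact one_mul 1
  · exact z_sq hS

theorem sq_eq_of_mk_eq {x y : Q} (h : (QuotientGroup.mk x : Q ⧸ Subgroup.center Q) = QuotientGroup.mk y) :
    x * x = y * y := by
  have hc : y⁻¹ * x ∈ Subgroup.center Q := QuotientGroup.eq.1 h.symm
  have hx : x = y * (y⁻¹ * x) := by group
  rw [hx]
  calc y * (y⁻¹ * x) * (y * (y⁻¹ * x)) = y * ((y⁻¹ * x) * y) * (y⁻¹ * x) := by group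
    _ = y * (y * (y⁻¹ * x)) * (y⁻¹ * x) := by rw [(Subgroup.mem_center_iff.1 hc y).symm]
    _ = y * y * ((y⁻¹ * x) * (y⁻¹ * x)) := by group
    _ = y * y := by rw [center_sq hS hc, mul_one]

theorem card_qG : Nat.card (qG Q) = 2 ^ 25 := by
  rw [qG, Subgroup.card_map_of_injective (Subgroup.subtype_injective _), card_Q hS]

end Core

section Iso

variable [Q.Normal] {e : (Subgroup.centralizer ({z} : Set G)) ⧸ Q ≃* Spor.Co1}
  {ψ : leechLattice → Q ⧸ Subgroup.center Q} (hψ : IsLeechModTwoIso Q e ψ)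

/-- The map from the automorphism group of the lattice onto `C / Q`. -/
noncomputable def proj (e : (Subgroup.centralizer ({z} : Set G)) ⧸ Q ≃* Spor.Co1) :
    Co0 →* (Subgroup.centralizer ({z} : Set G)) ⧸ Q :=
  e.symm.toMonoidHom.comp (QuotientGroup.mk' (Subgroup.center Co0))

theorem proj_surjective : Function.Surjective (proj e) :=
  e.symm.surjective.comp (QuotientGroup.mk'_surjective _)

theorem proj_eq_one_iff {g : Co0} : proj e g = 1 ↔ g ∈ Subgroup.center Co0 := by
  rw [proj, MonoidHom.comp_apply, MulEquiv.coe_toMonoidHom, MulEquiv.map_eq_one_iff,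
    QuotientGroup.mk'_apply, QuotientGroup.eq_one_iff]

include hψ

theorem psi_add (v w : leechLattice) : ψ (v + w) = ψ v * ψ w := hψ.1 v w

theorem psi_eq_one_iff {v : leechLattice} : ψ v = 1 ↔ v ∈ twoMul leechLattice := by
  rw [hψ.2.2.1, mem_twoMul_iff_add]

theorem psi_zero : ψ 0 = 1 := (psi_eq_one_iff hψ).2 (zero_mem _)

theorem psi_eq_iff {v w : leechLattice} : ψ v = ψ w ↔ v - w ∈ twoMul leechLattice := by
  rw [← psi_eq_one_iff hψ]
  have h := psi_add hψ (v - w) w
  rw [sub_add_cancel] at h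
  constructor
  · intro hvw
    rw [hvw] at h
    exact (right_eq_mul.1 h)
  · intro hvw
    rw [h, hvw, one_mul]

theorem exists_psi (x : Q) : ∃ v : leechLattice, ψ v = QuotientGroup.mk x := hψ.2.1 _

/-- The compatibility of the identification with conjugation. -/
theorem psi_smul {g : Co0} {h : Subgroup.centralizer ({z} : Set G)} (hg : proj e g = QuotientGroup.mk h)
    {v : leechLattice} {q : Q} (hq : ψ v = QuotientGroup.mk q) :
    ψ (g • v) = QuotientGroup.mk
      ⟨h * q * h⁻¹, (inferInstance : Q.Normal).conj_mem (q : Subgroup.centralizer ({z} : Set G)) q.2 h⟩ := by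
  refine hψ.2.2.2 h g ?_ v q hq
  rw [← hg, proj, MonoidHom.comp_apply, MulEquiv.coe_toMonoidHom, MulEquiv.apply_symm_apply]
  rfl

theorem exists_short_psi (x : Q) : ∃ v : leechLattice, (sqNorm (v : GolayPt → ℤ) = 0 ∨
    sqNorm (v : GolayPt → ℤ) = 32 ∨ sqNorm (v : GolayPt → ℤ) = 48 ∨ sqNorm (v : GolayPt → ℤ) = 64) ∧
      ψ v = QuotientGroup.mk x := by
  obtain ⟨u, hu⟩ := exists_psi hψ x
  obtain ⟨v, hv, hc⟩ := exists_short_rep u
  exact ⟨v, hv, by rw [← hu]; exact ((psi_eq_iff hψ).2 hc).symm⟩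

theorem mem_center_iff_norm {v : leechLattice} {x : Q} (hv : sqNorm (v : GolayPt → ℤ) ≤ 64)
    (hx : ψ v = QuotientGroup.mk x) : x ∈ Subgroup.center Q ↔ sqNorm (v : GolayPt → ℤ) = 0 := by
  rw [← QuotientGroup.eq_one_iff, ← hx, psi_eq_one_iff hψ]
  constructor
  · intro h
    have := sqNorm_eq_of_congr (v := v) (w := 0) (by rwa [sub_zero]) hv (by simp [sqNorm])
    simpa [sqNorm] using this
  · intro h
    rw [show v = 0 from Subtype.ext (sqNorm_eq_zero h)]
    exact zero_mem _

theorem centralizer_qG_le [Finite G] (hS : IsExtraspecialCentralizerSetting z Q 12) {x : G}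
    (hx : ∀ y ∈ qG Q, x * y = y * x) : x ∈ qG Q := by
  have hxc : x ∈ Subgroup.centralizer ({z} : Set G) :=
    Subgroup.mem_centralizer_singleton_iff.2 (hx z (z_mem_qG hS))
  obtain ⟨g, hg⟩ := proj_surjective (e := e) (QuotientGroup.mk (⟨x, hxc⟩ : Subgroup.centralizer ({z} : Set G)))
  have hcen : g ∈ Subgroup.center Co0 := by
    refine mem_center_of_trivial_mod_two fun v => ?_
    rw [← psi_eq_iff hψ]
    obtain ⟨q, hq⟩ := QuotientGroup.mk_surjective (ψ v)
    rw [psi_smul hψ hg hq.symm, ← hq]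
    congr 1
    refine Subtype.ext (Subtype.ext ?_)
    simp only [Subgroup.coe_mul, InvMemClass.coe_inv]
    rw [hx _ (coe_mem_qG q)]
    group
  rw [← proj_eq_one_iff (e := e), hg, QuotientGroup.eq_one_iff] at hcen
  exact mem_qG_iff.2 ⟨hxc, hcen⟩

theorem goodAt [Finite G] (hS : IsExtraspecialCentralizerSetting z Q 12) : GoodAt z := by
  refine ⟨hS.1, ?_, ?_⟩
  · rw [coreC_eq hS]
    obtain ⟨⟨hp, hf, hc⟩, hcard⟩ := extraspecial hS
    let eq : Q ≃* qG Q := Q.equivMapOfInjective _ (Subgroup.subtype_injective _)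
    have hcen : (Subgroup.center Q).map eq.toMonoidHom = Subgroup.center (qG Q) := by
      ext y
      obtain ⟨w, rfl⟩ := eq.surjective y
      constructor
      · rintro ⟨a, ha, hay⟩
        rw [← eq.injective hay, Subgroup.mem_center_iff]
        intro b
        obtain ⟨b, rfl⟩ := eq.surjective b
        rw [← map_mul, ← map_mul, Subgroup.mem_center_iff.1 ha b]
      · intro hy
        refine ⟨w, Subgroup.mem_center_iff.2 fun a => eq.injective ?_, rfl⟩
        rw [map_mul, map_mul]
        exact Subgroup.mem_center_iff.1 hy (eq a)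
    refine ⟨⟨hp.of_equiv eq, ?_, ?_⟩, ?_⟩
    · rw [← hcen, ← hf]
      exact (CfsgLib.Invol.QDW.map_frattini eq).symm
    · rw [← hcen, ← hc, _root_.commutator_def, _root_.commutator_def, Subgroup.map_commutator,
        Subgroup.map_top_of_surjective _ eq.surjective]
    · rw [← hcen, Subgroup.card_map_of_injective eq.injective, hcard]
  · intro x hx
    rw [coreC_eq hS] at hx ⊢
    exact centralizer_qG_le hψ hS fun y hy => (Subgroup.mem_centralizer_iff.1 hx y hy).symm

/-! ### The squaring map -/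

/-- The squaring map corresponds to the invariant form. -/
theorem sq_eq_one_iff [Finite G] (hS : IsExtraspecialCentralizerSetting z Q 12) {v : leechLattice}
    {x : Q} (hx : ψ v = QuotientGroup.mk x) :
    x * x = 1 ↔ (32 : ℤ) ∣ sqNorm (v : GolayPt → ℤ) := by
  classical
  have hE := extraspecial hS
  let χ : Q → ZMod 2 := fun c => if c = 1 then 0 else 1
  have hχ : ∀ a ∈ Subgroup.center Q, ∀ b ∈ Subgroup.center Q, χ (a * b) = χ a + χ b := by
    intro a ha b hb
    obtain ⟨c, -, hc2, hall⟩ := exists_centre_gen hE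
    have hne : c ≠ 1 := fun h => by rw [h, orderOf_one] at hc2; omega
    rcases hall a ha with rfl | rfl
    · simp [χ]
    rcases hall b hb with rfl | rfl
    · simp [χ]
    simp [χ, center_sq hS hb, hne]
    decide
  have hχinv : ∀ a ∈ Subgroup.center Q, χ a⁻¹ = χ a := fun a ha => by
    rw [inv_eq_of_mul_eq_one_left (center_sq hS ha)]
  let β : Q → Q → ZMod 2 := fun a b => χ (a * b * a⁻¹ * b⁻¹)
  have hβsymm : ∀ a b, β a b = β b a := fun a b => by
    simp only [β]
    rw [← hχinv (b * a * b⁻¹ * a⁻¹) (comm_mem_center hE b a)]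
    congr 1
    group
  have hβadd : ∀ a b c, β (a * b) c = β a c + β b c := fun a b c => by
    have h := congrArg Subtype.val
      (map_mul (commHom hE c ⊤) ⟨a, Subgroup.mem_top a⟩ ⟨b, Subgroup.mem_top b⟩)
    simp only [commHom, MonoidHom.coe_mk, OneHom.coe_mk, Subgroup.coe_mul] at h
    simp only [β]
    rw [h, hχ _ (comm_mem_center hE a c) _ (comm_mem_center hE b c)]
  have hsq : ∀ a b : Q, χ ((a * b) * (a * b)) = β a b + χ (a * a) + χ (b * b) := fun a b => by
    have e1 : (a * b) * (a * b) = (a * b * a⁻¹ * b⁻¹) * ((a * a) * (b * b)) := by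
      calc (a * b) * (a * b) = (a * b * a⁻¹ * b⁻¹) * (b * (a * a) * b) := by group
        _ = (a * b * a⁻¹ * b⁻¹) * ((a * a) * (b * b)) := by
          rw [Subgroup.mem_center_iff.1 (sq_mem_center hE a) b]; group
    rw [e1, hχ _ (comm_mem_center hE a b) _ (mul_mem (sq_mem_center hE a) (sq_mem_center hE b)),
      hχ _ (sq_mem_center hE a) _ (sq_mem_center hE b), add_assoc]
  let F : leechLattice → ZMod 2 := fun u => χ ((ψ u).out * (ψ u).out)
  have hF : ∀ (u : leechLattice) (y : Q), ψ u = QuotientGroup.mk y → F u = χ (y * y) := fun u y hy => by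
    simp only [F]
    rw [sq_eq_of_mk_eq hS (x := (ψ u).out) (y := y) (by rw [QuotientGroup.out_eq', hy])]
  have hcoset : ∀ a b : leechLattice, F (a + (b + b)) = F a := fun a b => by
    simp only [F]
    rw [(psi_eq_iff hψ).2 (show a + (b + b) - a ∈ twoMul leechLattice by
      rw [add_sub_cancel_left]; exact mem_twoMul_iff_add.2 ⟨b, rfl⟩)]
  have hmul : ∀ (a b : leechLattice) (p q : Q), ψ a = QuotientGroup.mk p → ψ b = QuotientGroup.mk q →
      ψ (a + b) = QuotientGroup.mk (p * q) := fun a b p q hp hq => by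
    rw [psi_add hψ, hp, hq]; rfl
  have hquad : ∀ a b c : leechLattice,
      F (a + b + c) + F a + F b + F c = F (a + b) + F (a + c) + F (b + c) := by
    intro a b c
    obtain ⟨p, hp⟩ := QuotientGroup.mk_surjective (ψ a)
    obtain ⟨q, hq⟩ := QuotientGroup.mk_surjective (ψ b)
    obtain ⟨r, hr⟩ := QuotientGroup.mk_surjective (ψ c)
    rw [hF _ _ (hmul _ _ _ _ (hmul _ _ _ _ hp.symm hq.symm) hr.symm), hF a p hp.symm, hF b q hq.symm,
      hF c r hr.symm, hF _ _ (hmul _ _ _ _ hp.symm hq.symm), hF _ _ (hmul _ _ _ _ hp.symm hr.symm),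
      hF _ _ (hmul _ _ _ _ hq.symm hr.symm), hsq (p * q) r, hsq p q, hsq p r, hsq q r, hβadd]
    generalize β p r = A1
    generalize β q r = A2
    generalize β p q = A3
    generalize χ (p * p) = A4
    generalize χ (q * q) = A5
    generalize χ (r * r) = A6
    revert A1 A2 A3 A4 A5 A6
    decide
  have hinv : ∀ (g : Co0) (u : leechLattice), F (g • u) = F u := by
    intro g u
    obtain ⟨h, hh⟩ := QuotientGroup.mk_surjective (proj e g)
    obtain ⟨q, hq⟩ := QuotientGroup.mk_surjective (ψ u)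
    rw [hF _ _ (psi_smul hψ hh.symm hq.symm), hF u q hq.symm]
    congr 1
    refine Subtype.ext (Subtype.ext ?_)
    simp only [Subgroup.coe_mul, InvMemClass.coe_inv]
    rcases (center_cases hS).1 (sq_mem_center hE q) with h1 | h1 <;>
      simp only [Subgroup.coe_mul] at h1
    · calc (h : G) * ((q : _) : G) * (h : G)⁻¹ * ((h : G) * ((q : _) : G) * (h : G)⁻¹)
          = (h : G) * (((q : _) : G) * ((q : _) : G)) * (h : G)⁻¹ := by group
        _ = ((q : _) : G) * ((q : _) : G) := by rw [h1]; group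
    · calc (h : G) * ((q : _) : G) * (h : G)⁻¹ * ((h : G) * ((q : _) : G) * (h : G)⁻¹)
          = (h : G) * (((q : _) : G) * ((q : _) : G)) * (h : G)⁻¹ := by group
        _ = z := by rw [h1, commute_z h]; group
        _ = ((q : _) : G) * ((q : _) : G) := h1.symm
  have hne : ∃ u : leechLattice, F u ≠ 0 := by
    by_contra! hall
    have hsq1 : ∀ y : Q, y * y = 1 := fun y => by
      obtain ⟨u, hu⟩ := exists_psi hψ y
      have h0 := hall u
      rw [hF u y hu] at h0
      simpa [χ] using h0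
    have hcomm : ∀ a b : Q, a * b = b * a := fun a b => by
      calc a * b = (a * b)⁻¹ := (inv_eq_of_mul_eq_one_left (hsq1 (a * b))).symm
        _ = b⁻¹ * a⁻¹ := mul_inv_rev a b
        _ = b * a := by rw [inv_eq_of_mul_eq_one_left (hsq1 a), inv_eq_of_mul_eq_one_left (hsq1 b)]
    have htop : Subgroup.center Q = ⊤ :=
      eq_top_iff.2 fun a _ => Subgroup.mem_center_iff.2 fun b => hcomm b a
    have := hE.2
    rw [htop, Subgroup.card_top, card_Q hS] at this
    omega
  have := form_eq F hcoset hquad hinv hne v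
  rw [hF v x hx] at this
  have h16 := sqNorm_dvd_sixteen v.2
  constructor
  · intro h1
    have h2 : ((sqNorm (v : GolayPt → ℤ) / 16 : ℤ) : ZMod 2) = 0 := by rw [← this]; simp [χ, h1]
    rw [ZMod.intCast_zmod_eq_zero_iff_dvd] at h2
    omega
  · intro h1
    have h2 : ((sqNorm (v : GolayPt → ℤ) / 16 : ℤ) : ZMod 2) = 0 := by
      rw [ZMod.intCast_zmod_eq_zero_iff_dvd]
      omega
    rw [h2] at this
    simpa [χ] using this

/-- Lifts of vectors of the same type are conjugate in the centraliser. -/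
theorem conj_of_same [Finite G] (hS : IsExtraspecialCentralizerSetting z Q 12) {v w : leechLattice}
    {x y : Q} {n : ℤ} (hn : n = 32 ∨ n = 48 ∨ n = 64) (hv : sqNorm (v : GolayPt → ℤ) = n)
    (hw : sqNorm (w : GolayPt → ℤ) = n) (hx : ψ v = QuotientGroup.mk x) (hy : ψ w = QuotientGroup.mk y) :
    ∃ h : Subgroup.centralizer ({z} : Set G), h * (x : Subgroup.centralizer ({z} : Set G)) * h⁻¹ = y := by
  obtain ⟨g, hg⟩ := same_shell hn hv hw
  obtain ⟨h, hh⟩ := QuotientGroup.mk_surjective (proj e g)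
  have h1 := psi_smul hψ hh.symm hx
  rw [(psi_eq_iff hψ).2 hg, hy] at h1
  set y' : Q := ⟨h * x * h⁻¹, (inferInstance : Q.Normal).conj_mem _ x.2 h⟩ with hy'
  have hc : y⁻¹ * y' ∈ Subgroup.center Q := QuotientGroup.eq.1 h1
  rcases (center_cases hS).1 hc with h2 | h2
  · refine ⟨h, ?_⟩
    have h3 : y' = y := (inv_mul_eq_one.1 (Subtype.ext (Subtype.ext h2) : y⁻¹ * y' = 1)).symm
    exact congrArg Subtype.val h3
  · have hync : y ∉ Subgroup.center Q := fun hyc => by
      have := (mem_center_iff_norm hψ (by omega) hy).1 hyc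
      omega
    obtain ⟨k, hk⟩ : ∃ k : Q, k * y * k⁻¹ * y⁻¹ ≠ 1 := by
      by_contra! hall
      refine hync (Subgroup.mem_center_iff.2 fun k => ?_)
      have h4 := hall k
      rwa [mul_inv_eq_one, mul_inv_eq_iff_eq_mul] at h4
    have h5 := ((center_cases hS).1 (comm_mem_center (extraspecial hS) k y)).resolve_left
      fun h => hk (Subtype.ext (Subtype.ext h))
    have h6 : k * y * k⁻¹ * y⁻¹ = y⁻¹ * y' := Subtype.ext (Subtype.ext (h5.trans h2.symm))
    refine ⟨(k : Subgroup.centralizer ({z} : Set G))⁻¹ * h, ?_⟩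
    have h7 : y' = k * y * k⁻¹ := by
      have hcc := Subgroup.mem_center_iff.1 hc y
      calc y' = y * (y⁻¹ * y') := by group
        _ = (y⁻¹ * y') * y := hcc
        _ = (k * y * k⁻¹ * y⁻¹) * y := by rw [h6]
        _ = k * y * k⁻¹ := by group
    have h8 : (k⁻¹ * y' * k : Q) = y := by rw [h7]; group
    have h9 := congrArg Subtype.val h8
    simp only [Subgroup.coe_mul, InvMemClass.coe_inv, hy'] at h9
    rw [← h9]
    group

/-- An element of `Q` with an order two square has type 32, 48 or 64. -/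
theorem exists_type_of_sq [Finite G] (hS : IsExtraspecialCentralizerSetting z Q 12) {x : Q}
    (hx : x ∉ Subgroup.center Q) (hsq : x * x = 1) :
    ∃ v : leechLattice, (sqNorm (v : GolayPt → ℤ) = 32 ∨ sqNorm (v : GolayPt → ℤ) = 64) ∧
      ψ v = QuotientGroup.mk x := by
  obtain ⟨v, hv, hvx⟩ := exists_short_psi hψ x
  refine ⟨v, ?_, hvx⟩
  have h32 := (sq_eq_one_iff hψ hS hvx).1 hsq
  rcases hv with h | h | h | h
  · exact absurd ((mem_center_iff_norm hψ (by omega) hvx).2 h) hx
  · exact Or.inl h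
  · omega
  · exact Or.inr h

end Iso

end CfsgLib.MonsterType
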